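import Cfsg.Agent.CosetEnum.Step
import Cfsg.Agent.CosetEnum.ON.AP0
import Cfsg.Agent.CosetEnum.ON.AP1
import Cfsg.Agent.CosetEnum.ON.AP2
import Cfsg.Agent.CosetEnum.ON.AP3
import Cfsg.Agent.CosetEnum.ON.AP4
import Cfsg.Agent.CosetEnum.ON.AP5
import Cfsg.Agent.CosetEnum.ON.AP6
import Cfsg.Agent.CosetEnum.ON.AP7
import Cfsg.Agent.CosetEnum.ON.AP8
import Cfsg.Agent.CosetEnum.ON.AP9
import Cfsg.Agent.CosetEnum.ON.AP10
import Cfsg.Agent.CosetEnum.ON.AP11
import Cfsg.Agent.CosetEnum.ON.AP12
import Cfsg.Agent.CosetEnum.ON.AP13
import Cfsg.Agent.CosetEnum.ON.AP14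
import Cfsg.Agent.CosetEnum.ON.AP15
import Cfsg.Agent.CosetEnum.ON.AP16

/-! Certificate of a coset enumeration (generated data, owner: helper66). -/

set_option autoImplicit false
set_option maxRecDepth 1000000

namespace Cfsg.Agent.CosetEnum.ONA

theorem st : staticOK 8 iv (RL.map expand) subs P L = true := by decide +kernel

theorem seg : Seg P L P.m 122760 :=
  ((((((((((((((((((((((((((((((((((((((((((((((((((((((((((((((((((Seg.nil).snoc part0).snoc part1).snoc part2).snoc part3).snoc part4).snoc part5).snoc part6).snoc part7).snoc part8).snoc part9).snoc part10).snoc part11).snoc part12).snoc part13).snoc part14).snoc part15).snoc part16).snoc part17).snoc part18).snoc part19).snoc part20).snoc part21).snoc part22).snoc part23).snoc part24).snoc part25).snoc part26).snoc part27).snoc part28).snoc part29).snoc part30).snoc part31).snoc part32).snoc part33).snoc part34).snoc part35).snoc part36).snoc part37).snoc part38).snoc part39).snoc part40).snoc part41).snoc part42).snoc part43).snoc part44).snoc part45).snoc part46).snoc part47).snoc part48).snoc part49).snoc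 part50).snoc part51).snoc part52).snoc part53).snoc part54).snoc part55).snoc part56).snoc part57).snoc part58).snoc part59).snoc part60).snoc part61).snoc part62).snoc part63).snoc part64).snoc part65

theorem cert : Cert 8 iv RL subs 122760 := fun g H hl hrels hsubs =>
  upper g H 8 iv hl (RL.map expand) subs hrels hsubs P L rfl st seg

end Cfsg.Agent.CosetEnum.ONA
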