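import Cfsg.Agent.CosetEnum.ON.AT0
import Cfsg.Agent.CosetEnum.ON.AT1
import Cfsg.Agent.CosetEnum.ON.AT2
import Cfsg.Agent.CosetEnum.ON.AT3
import Cfsg.Agent.CosetEnum.ON.AT4
import Cfsg.Agent.CosetEnum.ON.AT5
import Cfsg.Agent.CosetEnum.ON.AT6
import Cfsg.Agent.CosetEnum.ON.AT7

/-! Certificate of a coset enumeration (generated data, owner: helper66). -/

set_option autoImplicit false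
set_option maxRecDepth 1000000

namespace Cfsg.Agent.CosetEnum.ONA

noncomputable def tab : T := (.n 98048 (.n 49024 (.n 24512 tab0 tab1) (.n 73536 tab2 tab3)) (.n 147072 (.n 122560 tab4 tab5) (.n 171584 tab6 tab7)))

def lw : WT := .n 61 (.n 30 (.n 15 (.n 7 (.n 3 (.n 1 (.l [2,3,7,3,2,7,2,3,7,3,7] []) (.n 2 (.l [4,8,3,8,3,4,3,7,3,7] []) (.l [1,2,1,2,1,2] []))) (.n 5 (.n 4 (.l [3,7,2,3,7,3,2,7,2,3,7] []) (.l [6,7,6,4,7,4,7,6,4,7,4] [])) (.n 6 (.l [2,7,2,3,7,3,7,2,3,7,3] []) (.l [4,8,4,6,8,6,4,8,4,6,8] [])))) (.n 11 (.n 9 (.n 8 (.l [5,6,5,6,5,6] []) (.l [6,4,7,4,6,7,6,4,7,4,7] [])) (.n 10 (.l [2,3,8,3,2,8,3,8,3,2,8] []) (.l [1,6,1,6] []))) (.n 13 (.n 12 (.l [5,2,5,2] []) (.l [3,8,3,4,3,7,3,7,4,8] [])) (.n 14 (.l [4,8,4,3,4,7,4,7,3,8]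 []) (.l [2,6,2,6] []))))) (.n 22 (.n 18 (.n 16 (.l [6,1,6,1] []) (.n 17 (.l [8,2,3,8,3,2,8,3,8,3,2] []) (.l [8,1,5,8] []))) (.n 20 (.n 19 (.l [4,7,4,6,7,6,4,7,4,7,6] []) (.l [1,3,1,3] [])) (.n 21 (.l [2,3,2,3,2,3] []) (.l [3,7,3,2,7,2,3,7,3,7,2] [])))) (.n 26 (.n 24 (.n 23 (.l [6,3,6,3] []) (.l [6,2,6,2] [])) (.n 25 (.l [8,4,3,4,7,4,7,3,8,4] []) (.l [2,5,2,5] []))) (.n 28 (.n 27 (.l [1,4,1,4] []) (.l [5,4,5,4] [])) (.n 29 (.l [8,4,8,4,6,8,6,4,8,4,6] []) (.l [4,6,7,6,4,7,4,7,6,4,7] [])))))) (.n 45 (.n 37 (.n 33 (.n 31 (.l [1,5,8,8] []) (.n 32 (.l [4,1,4,1] []) (.l [8,3,2,8,2,3,8,3,2,8,3] []))) (.n 35 (.n 34 (.l [8,4,8,4,3,4,7,4,7,3] []) (.l [7,4,6,7,6,4,7,4,7,6,4] [])) (.n 36 (.l [7,2,3,7,3,2,7,2,3,7,3] []) (.l [3,1,3,1]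 [])))) (.n 41 (.n 39 (.n 38 (.l [3,2,8,3,8,3,2,8,2,3,8] []) (.l [2,4,2,4] [])) (.n 40 (.l [4,2,4,2] []) (.l [3,8,4,8,4,3,4,7,4,7] []))) (.n 43 (.n 42 (.l [7,2,3,7,3,7,2,3,7,3,2] []) (.l [7,5,1,7] [])) (.n 44 (.l [7,6,4,7,4,7,6,4,7,4,6] []) (.l [3,2,7,2,3,7,3,7,2,3,7] []))))) (.n 53 (.n 49 (.n 47 (.n 46 (.l [8,6,4,8,4,6,8,4,8,4,6] []) (.l [3,8,3,2,8,2,3,8,3,2,8] [])) (.n 48 (.l [8,8,1,5] []) (.l [8,3,8,3,2,8,2,3,8,3,2] []))) (.n 51 (.n 50 (.l [7,6,4,7,4,6,7,6,4,7,4] []) (.l [3,7,3,7,2,3,7,3,2,7,2] [])) (.n 52 (.l [7,7,5,1] []) (.l [8,3,8,3,4,3,7,3,7,4] [])))) (.n 57 (.n 55 (.n 54 (.l [7,3,7,2,3,7,3,2,7,2,3] []) (.l [3,4,7,4,7,3,8,4,8,4] [])) (.n 56 (.l [7,3,7,4,8,3,8,3,4,3] []) (.l [2,1,2,1,2,1] []))) (.n 59 (.n 58 (.l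 [5,1,7,7] []) (.l [6,8,4,8,4,6,8,6,4,8,4] [])) (.n 60 (.l [6,4,6,4,6,4] []) (.l [5,3,5,3] []))))))) (.n 91 (.n 76 (.n 68 (.n 64 (.n 62 (.l [3,5,3,5] []) (.n 63 (.l [3,4,3,7,3,7,4,8,3,8] []) (.l [6,4,8,4,6,8,4,8,4,6,8] []))) (.n 66 (.n 65 (.l [4,7,3,8,4,8,4,3,4,7] []) (.l [4,7,6,4,7,4,6,7,6,4,7] [])) (.n 67 (.l [5,1,5,1] []) (.l [8,3,4,3,7,3,7,4,8,3] [])))) (.n 72 (.n 70 (.n 69 (.l [7,3,8,4,8,4,3,4,7,4] []) (.l [3,6,3,6] [])) (.n 71 (.l [7,3,2,7,2,3,7,3,7,2,3] []) (.l [8,3,2,8,3,8,3,2,8,2,3] []))) (.n 74 (.n 73 (.l [8,4,6,8,6,4,8,4,6,8,4] []) (.l [7,4,7,3,8,4,8,4,3,4] [])) (.n 75 (.l [4,3,7,3,7,4,8,3,8,3] []) (.l [2,8,3,8,3,2,8,2,3,8,3] []))))) (.n 83 (.n 79 (.n 77 (.l [4,3,4,7,4,7,3,8,4,8] []) (.n 78 (.l [7,4,8,3,8,3,4,3,7,3]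 []) (.l [5,8,8,1] []))) (.n 81 (.n 80 (.l [3,2,3,2,3,2] []) (.l [1,7,7,5] [])) (.n 82 (.l [1,5,1,5] []) (.l [6,8,6,4,8,4,6,8,4,8,4] [])))) (.n 87 (.n 85 (.n 84 (.l [3,7,4,8,3,8,3,4,3,7] []) (.l [4,7,4,7,6,4,7,4,6,7,6] [])) (.n 86 (.l [3,8,3,2,8,3,8,3,2,8,2] []) (.l [2,8,2,3,8,3,2,8,3,8,3] []))) (.n 89 (.n 88 (.l [2,3,7,3,7,2,3,7,3,2,7] []) (.l [4,5,4,5] [])) (.n 90 (.l [4,6,8,4,8,4,6,8,6,4,8] []) (.l [4,6,8,6,4,8,4,6,8,4,8] [])))))) (.n 106 (.n 98 (.n 94 (.n 92 (.l [4,3,4,3,4,3,4,3,1,5] []) (.n 93 (.l [6,4,7,4,7,6,4,7,4,6,7] []) (.l [4,7,4,7,3,8,4,8,4,3] []))) (.n 96 (.n 95 (.l [8,4,6,8,4,8,4,6,8,6,4] []) (.l [4,8,4,6,8,4,8,4,6,8,6] [])) (.n 97 (.l [4,6,4,6,4,6] []) (.l [6,5,6,5,6,5] [])))) (.n 102 (.n 100 (.n 99 (.l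 [4,3,2,8,4,3,2,8,4,3,2,8,4,3,2,8,4,3,2,8] []) (.l [3,7,3,7,4,8,3,8,3,4] [])) (.n 101 (.l [7,2,3,4,7,2,3,4,7,2,3,4,7,2,3,4,7,2,3,4] []) (.l [7,4,7,6,4,7,4,6,7,6,4] []))) (.n 104 (.n 103 (.l [2,3,4,7,2,3,4,7,2,3,4,7,2,3,4,7,2,3,4,7] []) (.l [3,2,8,2,3,8,3,2,8,3,8] [])) (.n 105 (.l [8,4,3,2,8,4,3,2,8,4,3,2,8,4,3,2,8,4,3,2] []) (.l [4,3,4,3,4,3,1,5,4,3] []))))) (.n 114 (.n 110 (.n 108 (.n 107 (.l [4,7,2,3,4,7,2,3,4,7,2,3,4,7,2,3,4,7,2,3] []) (.l [3,4,3,4,3,4,3,1,5,4] [])) (.n 109 (.l [3,2,8,4,3,2,8,4,3,2,8,4,3,2,8,4,3,2,8,4] []) (.l [3,4,3,4,3,1,5,4,3,4] []))) (.n 112 (.n 111 (.l [1,5,4,3,4,3,4,3,4,3] []) (.l [4,3,4,3,4,3,4,5,1,3] [])) (.n 113 (.l [4,3,4,3,1,5,4,3,4,3] []) (.l [1,3,4,3,4,3,4,3,4,5] [])))) (.n 118 (.n 116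 (.n 115 (.l [3,4,7,2,3,4,7,2,3,4,7,2,3,4,7,2,3,4,7,2] []) (.l [3,4,3,4,3,4,5,1,3,4] [])) (.n 117 (.l [3,1,5,4,3,4,3,4,3,4] []) (.l [3,4,3,1,5,4,3,4,3,4] []))) (.n 120 (.n 119 (.l [4,3,1,5,4,3,4,3,4,3] []) (.l [3,4,3,4,3,4,3,4,5,1] [])) (.n 121 (.l [4,5,1,3,4,3,4,3,4,3] []) (.l [2,8,4,3,2,8,4,3,2,8,4,3,2,8,4,3,2,8,4,3] [])))))))

def L : LL := .cons 1 1 (.n 4 (.n 2 (.n 1 (.l [3,1,3] []) (.l [4,1,4] [])) (.n 3 (.l [6,1,6] []) (.l [5,1,5] []))) (.n 6 (.n 5 (.l [2,1,2,1,2] []) (.l [5,8,8] [])) (.n 7 (.l [7,7,5] []) (.n 8 (.l [5,4,3,4,3,4,3,4,3] []) (.l [3,4,3,4,3,4,3,4,5] []))))) (.l [] []) ( .cons 2 2 (.n 6 (.n 3 (.n 1 (.l [4,2,4] []) (.n 2 (.l [6,2,6] []) (.l [1,2,1,2,1] []))) (.n 4 (.l [5,2,5] []) (.n 5 (.l [8,2,3,8,3,2,8,3,8,3]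 []) (.l [3,8,3,2,8,3,8,3,2,8] [])))) (.n 9 (.n 7 (.l [3,7,3,7,2,3,7,3,2,7] []) (.n 8 (.l [3,2,3,2,3] []) (.l [7,2,3,7,3,7,2,3,7,3] []))) (.n 11 (.n 10 (.l [8,3,8,3,2,8,2,3,8,3] []) (.l [3,7,3,2,7,2,3,7,3,7] [])) (.n 12 (.l [8,4,3,2,8,4,3,2,8,4,3,2,8,4,3,2,8,4,3] []) (.l [3,4,7,2,3,4,7,2,3,4,7,2,3,4,7,2,3,4,7] []))))) (.l [] []) ( .cons 3 3 (.n 14 (.n 7 (.n 3 (.n 1 (.l [4,7,4,7,3,8,4,8,4] []) (.n 2 (.l [6,3,6] []) (.l [2,3,2,3,2] []))) (.n 5 (.n 4 (.l [8,4,8,4,3,4,7,4,7] []) (.l [5,3,5] [])) (.n 6 (.l [1,3,1] []) (.l [8,3,2,8,2,3,8,3,2,8] [])))) (.n 10 (.n 8 (.l [7,3,2,7,2,3,7,3,7,2] []) (.n 9 (.l [2,8,3,8,3,2,8,2,3,8] []) (.l [8,3,4,3,7,3,7,4,8] []))) (.n 12 (.n 11 (.l [7,4,8,3,8,3,4,3,7] []) (.l [8,3,2,8,3,8,3,2,8,2]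 [])) (.n 13 (.l [4,5,1,3,4,3,4,3,4] []) (.l [2,7,2,3,7,3,7,2,3,7] []))))) (.n 21 (.n 17 (.n 15 (.l [4,3,7,3,7,4,8,3,8] []) (.n 16 (.l [7,3,7,4,8,3,8,3,4] []) (.l [2,8,2,3,8,3,2,8,3,8] []))) (.n 19 (.n 18 (.l [4,3,4,5,1,3,4,3,4] []) (.l [7,2,3,7,3,2,7,2,3,7] [])) (.n 20 (.l [7,3,7,2,3,7,3,2,7,2] []) (.l [4,3,4,3,4,5,1,3,4] [])))) (.n 24 (.n 22 (.l [1,5,4,3,4,3,4,3,4] []) (.n 23 (.l [4,7,2,3,4,7,2,3,4,7,2,3,4,7,2,3,4,7,2] []) (.l [2,8,4,3,2,8,4,3,2,8,4,3,2,8,4,3,2,8,4] []))) (.n 26 (.n 25 (.l [4,3,4,3,4,3,1,5,4] []) (.l [4,3,4,3,1,5,4,3,4] [])) (.n 27 (.l [4,3,4,3,4,3,4,5,1] []) (.l [4,3,1,5,4,3,4,3,4] [])))))) (.l [] []) ( .cons 4 4 (.n 14 (.n 7 (.n 3 (.n 1 (.l [8,3,8,3,4,3,7,3,7] []) (.n 2 (.l [5,4,5] []) (.l [2,4,2]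 []))) (.n 5 (.n 4 (.l [3,7,3,7,4,8,3,8,3] []) (.l [7,6,4,7,4,6,7,6,4,7] [])) (.n 6 (.l [6,8,4,8,4,6,8,6,4,8] []) (.l [1,4,1] [])))) (.n 10 (.n 8 (.l [3,4,3,4,3,4,5,1,3] []) (.n 9 (.l [7,3,8,4,8,4,3,4,7] []) (.l [6,4,6,4,6] []))) (.n 12 (.n 11 (.l [8,4,6,8,4,8,4,6,8,6] []) (.l [7,4,7,3,8,4,8,4,3] [])) (.n 13 (.l [5,1,3,4,3,4,3,4,3] []) (.l [7,4,6,7,6,4,7,4,7,6] []))))) (.n 21 (.n 17 (.n 15 (.l [7,2,3,4,7,2,3,4,7,2,3,4,7,2,3,4,7,2,3] []) (.n 16 (.l [3,4,7,4,7,3,8,4,8] []) (.l [8,4,6,8,6,4,8,4,6,8] []))) (.n 19 (.n 18 (.l [3,2,8,4,3,2,8,4,3,2,8,4,3,2,8,4,3,2,8] []) (.l [6,7,6,4,7,4,7,6,4,7] [])) (.n 20 (.l [6,8,6,4,8,4,6,8,4,8] []) (.l [8,4,3,4,7,4,7,3,8] [])))) (.n 24 (.n 22 (.l [3,4,5,1,3,4,3,4,3] []) (.n 23 (.l [7,4,7,6,4,7,4,6,7,6]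 []) (.l [3,4,3,4,3,1,5,4,3] []))) (.n 26 (.n 25 (.l [3,4,3,4,5,1,3,4,3] []) (.l [3,4,3,4,3,4,3,1,5] [])) (.n 27 (.l [3,1,5,4,3,4,3,4,3] []) (.l [3,4,3,1,5,4,3,4,3] [])))))) (.l [] []) ( .cons 5 5 (.n 4 (.n 2 (.n 1 (.l [8,8,1] []) (.l [2,5,2] [])) (.n 3 (.l [3,5,3] []) (.l [4,5,4] []))) (.n 6 (.n 5 (.l [1,5,1] []) (.l [1,7,7] [])) (.n 7 (.l [6,5,6,5,6] []) (.n 8 (.l [4,3,4,3,4,3,4,3,1] []) (.l [1,3,4,3,4,3,4,3,4] []))))) (.l [] []) ( .cons 6 6 (.n 5 (.n 2 (.n 1 (.l [4,6,4,6,4] []) (.l [5,6,5,6,5] [])) (.n 3 (.l [2,6,2] []) (.n 4 (.l [8,6,4,8,4,6,8,4,8,4] []) (.l [4,8,4,6,8,4,8,4,6,8] [])))) (.n 8 (.n 6 (.l [1,6,1] []) (.n 7 (.l [3,6,3] []) (.l [7,6,4,7,4,7,6,4,7,4] []))) (.n 9 (.l [4,7,4,7,6,4,7,4,6,7] []) (.n 10 (.l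 [8,4,8,4,6,8,6,4,8,4] []) (.l [4,7,4,6,7,6,4,7,4,7] []))))) (.l [] []) ( .cons 7 8 (.n 7 (.n 3 (.n 1 (.l [1,5,8] []) (.n 2 (.l [8,1,5] []) (.l [3,2,8,2,3,8,3,2,8,3] []))) (.n 5 (.n 4 (.l [4,6,8,6,4,8,4,6,8,4] []) (.l [4,3,4,7,4,7,3,8,4] [])) (.n 6 (.l [3,4,3,7,3,7,4,8,3] []) (.l [3,2,8,3,8,3,2,8,2,3] [])))) (.n 11 (.n 9 (.n 8 (.l [6,4,8,4,6,8,4,8,4,6] []) (.l [2,3,8,3,2,8,3,8,3,2] [])) (.n 10 (.l [4,6,8,4,8,4,6,8,6,4] []) (.l [4,8,4,6,8,6,4,8,4,6] []))) (.n 13 (.n 12 (.l [3,8,3,2,8,2,3,8,3,2] []) (.l [4,8,4,3,4,7,4,7,3] [])) (.n 14 (.l [3,8,3,4,3,7,3,7,4] []) (.l [4,3,2,8,4,3,2,8,4,3,2,8,4,3,2,8,4,3,2] []))))) (.e) ( .cons 8 7 (.n 7 (.n 3 (.n 1 (.l [5,1,7] []) (.n 2 (.l [7,5,1] []) (.l [3,7,2,3,7,3,2,7,2,3] []))) (.n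 5 (.n 4 (.l [4,7,6,4,7,4,6,7,6,4] []) (.l [2,3,7,3,7,2,3,7,3,2] [])) (.n 6 (.l [4,7,3,8,4,8,4,3,4] []) (.l [3,7,4,8,3,8,3,4,3] [])))) (.n 11 (.n 9 (.n 8 (.l [6,4,7,4,7,6,4,7,4,6] []) (.l [4,8,3,8,3,4,3,7,3] [])) (.n 10 (.l [4,6,7,6,4,7,4,7,6,4] []) (.l [3,2,7,2,3,7,3,7,2,3] []))) (.n 13 (.n 12 (.l [6,4,7,4,6,7,6,4,7,4] []) (.l [3,8,4,8,4,3,4,7,4] [])) (.n 14 (.l [2,3,7,3,2,7,2,3,7,3] []) (.l [2,3,4,7,2,3,4,7,2,3,4,7,2,3,4,7,2,3,4] []))))) (.e) ( .nil ))))))))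

def iv : List (Nat × Nat) := [(7, 8)]

def RL : List (List Nat × Nat) := [([1, 2], 3), ([1, 3], 2), ([1, 4], 2), ([1, 5], 2), ([1, 6], 2), ([2, 3], 3), ([2, 4], 2), ([2, 5], 2), ([2, 6], 2), ([3, 4], 8), ([3, 5], 2), ([3, 6], 2), ([4, 5], 2), ([4, 6], 3), ([5, 6], 3), ([1, 5, 8, 8], 1), ([1, 5, 4, 3, 4, 3, 4, 3, 4, 3], 1), ([3, 8, 4, 8, 4, 3, 4, 7, 4, 7], 1), ([4, 8, 3, 8, 3, 4, 3, 7, 3, 7], 1), ([2, 3, 4, 7], 5), ([7, 2, 3, 7, 3, 2, 7, 2, 3, 7, 3], 1), ([7, 6, 4, 7, 4, 6, 7, 6, 4, 7, 4], 1)]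

def subs : List (List Nat) := [[1], [2], [3], [4], [5], [6]]

noncomputable def P : Par := ⟨tab, 396, 161390617380431786853494948250188242145606612051826469551916209783790476376052574664352834580008614464743948248296718335, 196070, icG 8 iv, lw⟩

end Cfsg.Agent.CosetEnum.ONA
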