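import Cfsg.Agent.CosetEnum.ON.CData

/-! Certificate of a coset enumeration (generated data, owner: helper28). -/

set_option autoImplicit false
set_option maxRecDepth 1000000

namespace Cfsg.Agent.CosetEnum.ONC

def ck0 : CK := .cons 32 32 0x2200900000480440000802400200220012011008806400240220010008004012009000100110008044022009000100010009008800401200900010048044002009000800880048044022000200900880040020012011000802401200100080240220010048004008004 ( .cons 32 32 0x44002400040024002002200900090088000220010088001100080240001100480019004800402201100480088004000090000440120004400240044032001200020110008004800090001001100080440220090001000900080088024002402201100880048044002009 ( .cons 32 32 0x4012009008800002009000000100090088000900480048008800c80040220110088004002401201100022002200044032001000800022001001100190048004022011000220000000110001200044032001200020110008004800401200900880001200020022001 ( .cons 16 16 0x220000000110088000220022000200120110011000004004400048024004400000021000100110011000120012009 ( .nil ))))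

theorem part0 : chunks P L 112 ck0 0 112 = true := by decide +kernel

end Cfsg.Agent.CosetEnum.ONC
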