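import Cfsg.Agent.CosetEnum.ON.PslEval
import Cfsg.Agent.CosetEnum.ON.B
import Cfsg.Agent.CosetEnum.ON.C
import Cfsg.Agent.CosetEnum.ON.E

/-!
The group `⟨a, …, f⟩ = L₃(7) : 2` of the presentation of the O'Nan group (owner: helper66).
-/

set_option autoImplicit false
set_option maxRecDepth 1000000

namespace Cfsg.Agent.CosetEnum.ON

/-- the presented `L₃(7) : 2` -/
abbrev Q6 : Type := QG 6 ONB.iv ONB.RL

/-- its letters -/
abbrev q6 : ℕ → Q6 := qg 6 ONB.iv ONB.RL

theorem U6 : Univ q6 6 ONB.iv ONB.RL := univ_qg _ _ _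

theorem bd6 : Bd (⊤ : Subgroup Q6) 3753792 := by
  have g := U6.good
  rw [← U6.top]
  have h2 := (Bd.zero q6).cl (M := 6) ONE.cert g (by decide +kernel) (by decide +kernel) (by norm_num) rfl
  have h5 := h2.cl (M := 672) ONC.cert g (by decide +kernel) (by decide +kernel) (by norm_num) rfl
  exact h5.cl (M := 3753792) ONB.cert g (by decide +kernel) (by decide +kernel) (by norm_num) rfl

/-- the family of automorphisms -/
def ph' (x : ℕ) : MulAut SL37 := if isLet 6 x = true then ph x else 1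

theorem ph'_inv (x : ℕ) : ph' x = (ph' x)⁻¹ := by
  unfold ph'
  split_ifs
  · exact eq_inv_of_mul_eq_one_left (ph_sq x)
  · exact inv_one.symm

theorem map_ph' (w : List ℕ) (hw : wOK 6 w = true) : w.map ph' = w.map ph := by
  simp only [wOK, List.all_eq_true] at hw
  apply List.map_congr_left
  intro x hx
  rw [ph', if_pos (hw x hx)]

theorem good' : Good ph' 6 ONB.iv ONB.RL where
  inv x := ph'_inv x
  one x hx := by
    rw [ph', if_neg]
    simp [hx]
  rel p hp := by
    have h : ONB.RL.all (fun p => relB (expand p) && wOK 6 (expand p)) = true := by decide +kernel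
    simp only [List.all_eq_true, Bool.and_eq_true] at h
    obtain ⟨h1, h2⟩ := h p hp
    rw [← prod_expand, map_ph' _ h2]
    exact rel_of _ h1

theorem exists_psi : ∃ ψ : Q6 →* MulAut SL37, ∀ x, ψ (q6 x) = ph' x := U6.univ _ _ good'

/-- the action on `SL(3, 7)` -/
noncomputable def psi : Q6 →* MulAut SL37 := exists_psi.choose

theorem psi_q6 (x : ℕ) : psi (q6 x) = ph' x := exists_psi.choose_spec x

theorem psi_word (w : List ℕ) (hw : wOK 6 w = true) : psi ((w.map q6).prod) = (w.map ph).prod := by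
  rw [map_list_prod, List.map_map, ← map_ph' w hw]
  congr 1
  apply List.map_congr_left
  intro x _
  exact psi_q6 x

/-- inner automorphisms -/
def Inn : Subgroup (MulAut SL37) := (MulAut.conj : SL37 →* MulAut SL37).range

theorem ker_conj : (MulAut.conj : SL37 →* MulAut SL37).ker = Subgroup.center SL37 := by
  ext x
  rw [MonoidHom.mem_ker, Subgroup.mem_center_iff]
  constructor
  · intro h y
    have h1 : x * y * x⁻¹ = y := congrArg (fun f : MulAut SL37 => f y) h
    rw [mul_inv_eq_iff_eq_mul] at h1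
    exact h1.symm
  · intro h
    ext1 y
    show x * y * x⁻¹ = y
    rw [mul_inv_eq_iff_eq_mul]
    exact (h y).symm

/-- `PSL(3, 7)` as a group of automorphisms -/
noncomputable def pslEquiv : Matrix.ProjectiveSpecialLinearGroup (Fin 3) (ZMod 7) ≃* Inn :=
  (QuotientGroup.quotientMulEquivOfEq ker_conj.symm).trans (QuotientGroup.quotientKerEquivRange _)

theorem card_psl : Nat.card (Matrix.ProjectiveSpecialLinearGroup (Fin 3) (ZMod 7)) = 1876896 := by
  have h1 := H4.card_PSL_mul (F := ZMod 7) 3 (by norm_num)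
  have h2 := H4.card_SL_mul (F := ZMod 7) 3 (by norm_num)
  have h3 := Matrix.card_GL_field (𝔽 := ZMod 7) 3
  rw [h3, Fin.prod_univ_three] at h2
  simp only [ZMod.card, Fin.val_zero, Fin.val_one, Fin.val_two] at h1 h2
  have h4 : Nat.gcd 3 (7 - 1) = 3 := by norm_num
  rw [h4] at h1
  generalize Nat.card (Matrix.ProjectiveSpecialLinearGroup (Fin 3) (ZMod 7)) = x at h1 ⊢
  generalize Nat.card (Matrix.SpecialLinearGroup (Fin 3) (ZMod 7)) = y at h1 h2
  clear h3
  norm_num at h2
  omega

theorem card_Inn : Nat.card Inn = 1876896 := by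
  rw [← card_psl]
  exact (Nat.card_congr pslEquiv.toEquiv).symm

theorem Inn_normal : Inn.Normal := by
  constructor
  rintro _ ⟨x, rfl⟩ f
  refine ⟨f x, ?_⟩
  ext1 y
  show f x * y * (f x)⁻¹ = f (x * f⁻¹ y * x⁻¹)
  rw [map_mul, map_mul, map_inv]
  congr 2
  exact (MulEquiv.apply_symm_apply f y).symm

/-- transvections -/
theorem transv_mem {i j : Fin 3} (hij : i ≠ j) (w : List ℕ) (t s : ZMod 7) (ht : t ≠ 0) (hs : s * s * s = 1)
    (hw : evenB w = true) (hw6 : wOK 6 w = true)
    (he : toM (evW (prs w) 16781313) = s • (Matrix.SpecialLinearGroup.transvection hij t : SL37).1) (a : ZMod 7) :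
    MulAut.conj (Matrix.SpecialLinearGroup.transvection hij a : SL37) ∈ psi.range := by
  obtain ⟨M, h1, h2⟩ := word_even w hw
  have h3 : MulAut.conj (Matrix.SpecialLinearGroup.transvection hij t : SL37) ∈ psi.range := by
    rw [← conj_smul hs (h2.trans he), ← h1, ← psi_word w hw6]
    exact ⟨_, rfl⟩
  have h4 : ∀ k : ℕ, MulAut.conj (Matrix.SpecialLinearGroup.transvection hij ((k : ZMod 7) * t) : SL37) ∈ psi.range := by
    intro k
    induction k with
    | zero =>
      rw [Nat.cast_zero, zero_mul, Matrix.SpecialLinearGroup.transvection_coeff_zero, map_one]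
      exact psi.range.one_mem
    | succ k ih =>
      rw [Nat.cast_succ, add_mul, one_mul, Matrix.SpecialLinearGroup.transvection_add, map_mul]
      exact psi.range.mul_mem ih h3
  have h5 := h4 (a * t⁻¹).val
  rwa [ZMod.natCast_val, ZMod.cast_id', id, mul_assoc, inv_mul_cancel₀ ht, mul_one] at h5

theorem Inn_le : Inn ≤ psi.range := by
  rintro _ ⟨X, rfl⟩
  refine ClassBase.transvection_induction (fun M => MulAut.conj M ∈ psi.range) ?_ ?_ X
  · intro i j hij a
    fin_cases i <;> fin_cases j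
    · exact absurd rfl hij
    · exact transv_mem (i := 0) (j := 1) (by decide) [2, 4, 3, 2, 4, 6, 4, 3, 2, 4, 6, 5, 6, 4, 3, 2, 1, 4] 3 4
        (by decide) (by decide) (by decide +kernel) (by decide +kernel) (by decide +kernel) a
    · exact transv_mem (i := 0) (j := 2) (by decide) [2, 3, 2, 4, 3, 2, 4, 3, 2, 4, 6, 4, 3, 2, 1, 4, 3, 2] 2 2
        (by decide) (by decide) (by decide +kernel) (by decide +kernel) (by decide +kernel) a
    · exact transv_mem (i := 1) (j := 0) (by decide) [2, 4, 3, 2, 1, 6, 4, 3, 5, 6, 4, 3, 2, 1, 4, 3, 6, 4] 3 4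
        (by decide) (by decide) (by decide +kernel) (by decide +kernel) (by decide +kernel) a
    · exact absurd rfl hij
    · exact transv_mem (i := 1) (j := 2) (by decide) [1, 2, 3, 2, 1, 6, 4, 3, 5, 6, 4, 3, 2, 4, 3, 6] 3 2
        (by decide) (by decide) (by decide +kernel) (by decide +kernel) (by decide +kernel) a
    · exact transv_mem (i := 2) (j := 0) (by decide) [2, 1, 3, 2, 4, 3, 4, 5, 6, 4, 3, 2, 1, 4, 3, 2, 4, 3] 2 1
        (by decide) (by decide) (by decide +kernel) (by decide +kernel) (by decide +kernel) a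
    · exact transv_mem (i := 2) (j := 1) (by decide) [1, 2, 3, 2, 4, 6, 4, 3, 2, 4, 6, 5, 6, 4, 3, 2] 3 4
        (by decide) (by decide) (by decide +kernel) (by decide +kernel) (by decide +kernel) a
    · exact absurd rfl hij
  · intro A B hA hB
    rw [map_mul]
    exact psi.range.mul_mem hA hB

/-- the inverse transpose is not inner -/
theorem tau_not : tau ∉ Inn := by
  rintro ⟨A, hA⟩
  have h : ∀ X : SL37, A.1 * X.1 = (tau X).1 * A.1 := by
    intro X
    have h1 : A * X * A⁻¹ = tau X := congrArg (fun f : MulAut SL37 => f X) hA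
    rw [mul_inv_eq_iff_eq_mul] at h1
    exact congrArg Subtype.val h1
  have h01 := h (Matrix.SpecialLinearGroup.transvection (show (0 : Fin 3) ≠ 1 by decide) 1)
  have h12 := h (Matrix.SpecialLinearGroup.transvection (show (1 : Fin 3) ≠ 2 by decide) 1)
  have e1 : (tau (Matrix.SpecialLinearGroup.transvection (show (0 : Fin 3) ≠ 1 by decide) (1 : ZMod 7))).1 =
      !![1, 0, 0; -1, 1, 0; 0, 0, 1] := by
    rw [tau_val, Matrix.SpecialLinearGroup.transvection_inv]
    decide +kernel
  have e2 : (tau (Matrix.SpecialLinearGroup.transvection (show (1 : Fin 3) ≠ 2 by decide) (1 : ZMod 7))).1 =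
      !![1, 0, 0; 0, 1, 0; 0, -1, 1] := by
    rw [tau_val, Matrix.SpecialLinearGroup.transvection_inv]
    decide +kernel
  have e3 : (Matrix.SpecialLinearGroup.transvection (show (0 : Fin 3) ≠ 1 by decide) (1 : ZMod 7)).1 =
      !![1, 1, 0; 0, 1, 0; 0, 0, 1] := by decide +kernel
  have e4 : (Matrix.SpecialLinearGroup.transvection (show (1 : Fin 3) ≠ 2 by decide) (1 : ZMod 7)).1 =
      !![1, 0, 0; 0, 1, 1; 0, 0, 1] := by decide +kernel
  rw [e1, e3] at h01
  rw [e2, e4] at h12
  have k1 : A.1 * !![0, 1, 0; 0, 0, 0; 0, 0, 0] = !![0, 0, 0; -1, 0, 0; 0, 0, 0] * A.1 := by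
    have a1 : (!![1, 1, 0; 0, 1, 0; 0, 0, 1] : Matrix (Fin 3) (Fin 3) (ZMod 7)) = 1 + !![0, 1, 0; 0, 0, 0; 0, 0, 0] := by
      decide +kernel
    have a2 : (!![1, 0, 0; -1, 1, 0; 0, 0, 1] : Matrix (Fin 3) (Fin 3) (ZMod 7)) = 1 + !![0, 0, 0; -1, 0, 0; 0, 0, 0] := by
      decide +kernel
    rw [a1, a2, mul_add, add_mul, mul_one, one_mul] at h01
    exact add_left_cancel h01
  have k2 : A.1 * !![0, 0, 0; 0, 0, 1; 0, 0, 0] = !![0, 0, 0; 0, 0, 0; 0, -1, 0] * A.1 := by
    have a1 : (!![1, 0, 0; 0, 1, 1; 0, 0, 1] : Matrix (Fin 3) (Fin 3) (ZMod 7)) = 1 + !![0, 0, 0; 0, 0, 1; 0, 0, 0] := by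
      decide +kernel
    have a2 : (!![1, 0, 0; 0, 1, 0; 0, -1, 1] : Matrix (Fin 3) (Fin 3) (ZMod 7)) = 1 + !![0, 0, 0; 0, 0, 0; 0, -1, 0] := by
      decide +kernel
    rw [a1, a2, mul_add, add_mul, mul_one, one_mul] at h12
    exact add_left_cancel h12
  have k3 : A.1 * (!![0, 1, 0; 0, 0, 0; 0, 0, 0] * !![0, 0, 0; 0, 0, 1; 0, 0, 0]) = 0 := by
    rw [← mul_assoc, k1, mul_assoc, k2, ← mul_assoc]
    have : (!![0, 0, 0; -1, 0, 0; 0, 0, 0] * !![0, 0, 0; 0, 0, 0; 0, -1, 0] : Matrix (Fin 3) (Fin 3) (ZMod 7)) = 0 := by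
      decide +kernel
    rw [this, zero_mul]
  have k4 : (!![0, 1, 0; 0, 0, 0; 0, 0, 0] * !![0, 0, 0; 0, 0, 1; 0, 0, 0] : Matrix (Fin 3) (Fin 3) (ZMod 7)) = 0 := by
    have h1 : (A⁻¹).1 * A.1 = 1 := congrArg Subtype.val (inv_mul_cancel A)
    have h2 := congrArg (fun M => (A⁻¹).1 * M) k3
    simp only [mul_zero] at h2
    rwa [← mul_assoc, h1, one_mul] at h2
  exact absurd k4 (by decide +kernel)

theorem psi_one : psi (q6 1) = tau := by
  rw [psi_q6, ph', if_pos (show isLet 6 1 = true from rfl), ph]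
  have : As 1 = 1 := by
    apply Subtype.ext
    show toM (cA 1) = 1
    decide +kernel
  rw [this, map_one, one_mul]

instance : Finite Q6 := by
  have h := bd6.1
  exact Finite.of_equiv _ (Subgroup.topEquiv (G := Q6)).toEquiv

theorem card_range : 3753792 ≤ Nat.card psi.range := by
  have h1 : Nat.card Inn ∣ Nat.card psi.range := Subgroup.card_dvd_of_le Inn_le
  have : Finite psi.range := Finite.of_surjective _ psi.rangeRestrict_surjective
  have h2 : Nat.card Inn ≠ Nat.card psi.range := by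
    intro h
    have h3 : Inn = psi.range := Subgroup.eq_of_le_of_card_ge Inn_le h.ge
    apply tau_not
    rw [h3, ← psi_one]
    exact ⟨_, rfl⟩
  rw [card_Inn] at h1 h2
  obtain ⟨k, hk⟩ := h1
  have h4 : 0 < Nat.card psi.range := Nat.card_pos
  rw [hk] at h2 h4 ⊢
  have : 2 ≤ k := by
    rcases k with _ | _ | k
    · simp at h4
    · simp at h2
    · omega
  omega

theorem card6 : Nat.card Q6 = 3753792 := by
  apply le_antisymm
  · have := bd6.2
    rwa [Subgroup.card_top] at this
  · exact card_range.trans (Nat.card_le_card_of_surjective _ psi.rangeRestrict_surjective)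

theorem psi_inj : Function.Injective psi := by
  have h3 : Nat.card Q6 = Nat.card psi.range :=
    le_antisymm (by rw [card6]; exact card_range) (Nat.card_le_card_of_surjective _ psi.rangeRestrict_surjective)
  have h4 := ((Nat.bijective_iff_surjective_and_card _).2 ⟨psi.rangeRestrict_surjective, h3⟩).1
  intro x y hxy
  exact h4 (Subtype.ext hxy)

/-- `L₃(7)` in the presented group -/
noncomputable def D6 : Subgroup Q6 := Inn.comap psi

theorem D6_normal : D6.Normal := Inn_normal.comap psi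

/-- `D6` is isomorphic to `PSL(3, 7)` -/
theorem D6_equiv : Nonempty (D6 ≃* Matrix.ProjectiveSpecialLinearGroup (Fin 3) (ZMod 7)) := by
  let f : D6 →* Inn := (psi.comp D6.subtype).codRestrict Inn (fun x => x.2)
  have hinj : Function.Injective f := by
    intro x y hxy
    apply Subtype.ext
    apply psi_inj
    exact congrArg Subtype.val hxy
  have hsurj : Function.Surjective f := by
    rintro ⟨y, hy⟩
    obtain ⟨x, rfl⟩ := Inn_le hy
    exact ⟨⟨x, hy⟩, rfl⟩
  exact ⟨(MulEquiv.ofBijective f ⟨hinj, hsurj⟩).trans pslEquiv.symm⟩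

theorem D6_simple : IsSimpleGroup D6 := by
  obtain ⟨e⟩ := D6_equiv
  exact simple_equiv e.symm (ClassBase.psl_fin_simple 3 (by norm_num))

theorem D6_index : D6.index = 2 := by
  have h := D6.card_mul_index
  obtain ⟨e⟩ := D6_equiv
  rw [Nat.card_congr e.toEquiv, card_psl, card6] at h
  omega

theorem q12_mem : q6 1 * q6 2 ∈ D6 := by
  show psi (q6 1 * q6 2) ∈ Inn
  rw [map_mul, psi_q6, psi_q6, ph', ph', if_pos (show isLet 6 1 = true from rfl),
    if_pos (show isLet 6 2 = true from rfl), ph_mul]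
  exact ⟨_, rfl⟩

/-- normal subgroups of `L₃(7) : 2` -/
theorem normal6 (K : Subgroup Q6) (hK : K.Normal) : K = ⊥ ∨ D6 ≤ K := by
  have hD := D6_normal
  have hs := D6_simple
  have : (K.subgroupOf D6).Normal := hK.subgroupOf _
  rcases this.eq_bot_or_eq_top with h | h
  · left
    rw [Subgroup.subgroupOf_eq_bot] at h
    rw [eq_bot_iff]
    intro k hk
    have hcomm : ∀ d ∈ D6, k * d = d * k := by
      intro d hd
      exact Subgroup.commute_of_normal_of_disjoint K D6 hK hD h k d hk hd
    have h1 : ∀ X : SL37, MulAut.conj (psi k X) = MulAut.conj X := by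
      intro X
      obtain ⟨d, hd⟩ := Inn_le ⟨X, rfl⟩
      have h2 : d ∈ D6 := by
        show psi d ∈ Inn
        rw [hd]
        exact ⟨X, rfl⟩
      have h3 := congrArg psi (hcomm d h2)
      rw [map_mul, map_mul, hd] at h3
      have h4 : psi k * MulAut.conj X = MulAut.conj (psi k X) * psi k := by
        ext1 Y
        show psi k (X * Y * X⁻¹) = psi k X * psi k Y * (psi k X)⁻¹
        rw [map_mul, map_mul, map_inv]
      rw [h4] at h3
      exact mul_right_cancel h3
    have h2 : ∀ X : SL37, (psi k X) * X⁻¹ ∈ Subgroup.center SL37 := by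
      intro X
      rw [← ker_conj, MonoidHom.mem_ker, map_mul, map_inv, h1, mul_inv_cancel]
    have h3 : ∀ X : SL37, psi k X = X := by
      intro X
      have h4 : X ∈ commutator SL37 := by
        rw [show commutator SL37 = ⊤ from ClassBase.sl_fin_commutator_eq_top 3 (le_refl _)]
        trivial
      rw [commutator_eq_closure] at h4
      induction h4 using Subgroup.closure_induction with
      | mem y hy =>
        obtain ⟨x, y, rfl⟩ := hy
        obtain ⟨z, hz, hx⟩ : ∃ z ∈ Subgroup.center SL37, psi k x = z * x := ⟨_, h2 x, by group⟩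
        obtain ⟨z', hz', hy⟩ : ∃ z ∈ Subgroup.center SL37, psi k y = z * y := ⟨_, h2 y, by group⟩
        rw [commutatorElement_def, map_mul, map_mul, map_mul, map_inv, map_inv, hx, hy]
        rw [Subgroup.mem_center_iff] at hz hz'
        have e1 : (z * x) * (z' * y) * (z * x)⁻¹ * (z' * y)⁻¹ = z * (x * z') * y * x⁻¹ * z⁻¹ * y⁻¹ * z'⁻¹ := by group
        rw [e1, hz' x]
        have e2 : z * (z' * x) * y * x⁻¹ * z⁻¹ * y⁻¹ * z'⁻¹ = z * (z' * (x * y * x⁻¹ * (z⁻¹ * y⁻¹) * z'⁻¹)) := by group
        have e3 : z⁻¹ * y⁻¹ = y⁻¹ * z⁻¹ := by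
          rw [← mul_inv_rev, ← mul_inv_rev, hz y]
        rw [e2, e3]
        have e4 : x * y * x⁻¹ * (y⁻¹ * z⁻¹) * z'⁻¹ = (x * y * x⁻¹ * y⁻¹) * (z⁻¹ * z'⁻¹) := by group
        rw [e4]
        have e5 : ∀ c : SL37, z' * (c * (z⁻¹ * z'⁻¹)) = c * z⁻¹ := by
          intro c
          rw [← hz' (c * (z⁻¹ * z'⁻¹))]
          group
        rw [e5, ← hz]
        group
      | one => exact map_one _
      | mul x y _ _ hx hy => rw [map_mul, hx, hy]
      | inv x _ hx => rw [map_inv, hx]
    rw [Subgroup.mem_bot]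
    apply psi_inj
    rw [map_one]
    ext1 X
    exact h3 X
  · right
    rwa [Subgroup.subgroupOf_eq_top] at h

end Cfsg.Agent.CosetEnum.ON
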