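import Cfsg.Agent.CosetEnum.ON.K1Data

/-! Certificate of a coset enumeration (generated data, owner: helper28). -/

set_option autoImplicit false
set_option maxRecDepth 1000000

namespace Cfsg.Agent.CosetEnum.ONK1

def ck0 : CK := .cons 32 1 0x900880459800042800444000ba8330002ea0010880005b40440000bacc00013408800075110000da00100cb30001551100007a0010048004012880004f4002001000800408700025a009000804510000868004002009440001ba00100cb30000fd001100880040020090001330001da0440006e800014400018a02200000d022000054012001010c380005500080061c000d28004032cc000234002001008a20000750008025100003e8004002001870000ca001 ( .cons 23 0 0x902080040020090048044012cc00063407200620117800030a00100480a598000a6801081100021a2200041554000668024002009008a20001b50008004012880002d400061c0009e806598000c2800400200100196600012a880002540880009d00110088004002009 ( .nil ))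

theorem part0 : chunks P L 55 ck0 0 1 = true := by decide +kernel

end Cfsg.Agent.CosetEnum.ONK1
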