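import Cfsg.Agent.CosetEnum.ON.T8Data

/-! Permutation table (generated data, owner: helper66). -/

set_option autoImplicit false
set_option maxRecDepth 1000000

namespace Cfsg.Agent.CosetEnum.ONT8

theorem h0_0 : allR (orbC P letsk [] 0 1) 0 1 = true := by decide +kernel

theorem h1_0 : allR (orbC P letsk [] 1 58654) 1 1000 = true := by decide +kernel

theorem h1_1 : allR (orbC P letsk [] 1 58654) 1001 1000 = true := by decide +kernel

theorem h1_2 : allR (orbC P letsk [] 1 58654) 2001 1000 = true := by decide +kernel

theorem h1_3 : allR (orbC P letsk [] 1 58654) 3001 1000 = true := by decide +kernel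

theorem h1_4 : allR (orbC P letsk [] 1 58654) 4001 1000 = true := by decide +kernel

theorem h1_5 : allR (orbC P letsk [] 1 58654) 5001 1000 = true := by decide +kernel

theorem h1_6 : allR (orbC P letsk [] 1 58654) 6001 1000 = true := by decide +kernel

theorem h1_7 : allR (orbC P letsk [] 1 58654) 7001 1000 = true := by decide +kernel

theorem h1_8 : allR (orbC P letsk [] 1 58654) 8001 1000 = true := by decide +kernel

theorem h1_9 : allR (orbC P letsk [] 1 58654) 9001 1000 = true := by decide +kernel

theorem h1_10 : allR (orbC P letsk [] 1 58654) 10001 1000 = true := by decide +kernel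

theorem h1_11 : allR (orbC P letsk [] 1 58654) 11001 1000 = true := by decide +kernel

theorem h1_12 : allR (orbC P letsk [] 1 58654) 12001 1000 = true := by decide +kernel

theorem h1_13 : allR (orbC P letsk [] 1 58654) 13001 1000 = true := by decide +kernel

theorem h1_14 : allR (orbC P letsk [] 1 58654) 14001 1000 = true := by decide +kernel

end Cfsg.Agent.CosetEnum.ONT8
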