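import Cfsg.Agent.CosetEnum.ON.T8Data

/-! Permutation table (generated data, owner: helper66). -/

set_option autoImplicit false
set_option maxRecDepth 1000000

namespace Cfsg.Agent.CosetEnum.ONT8

theorem h1_15 : allR (orbC P letsk [] 1 58654) 15001 1000 = true := by decide +kernel

theorem h1_16 : allR (orbC P letsk [] 1 58654) 16001 1000 = true := by decide +kernel

theorem h1_17 : allR (orbC P letsk [] 1 58654) 17001 1000 = true := by decide +kernel

theorem h1_18 : allR (orbC P letsk [] 1 58654) 18001 1000 = true := by decide +kernel

theorem h1_19 : allR (orbC P letsk [] 1 58654) 19001 1000 = true := by decide +kernel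

theorem h1_20 : allR (orbC P letsk [] 1 58654) 20001 1000 = true := by decide +kernel

theorem h1_21 : allR (orbC P letsk [] 1 58654) 21001 1000 = true := by decide +kernel

theorem h1_22 : allR (orbC P letsk [] 1 58654) 22001 1000 = true := by decide +kernel

theorem h1_23 : allR (orbC P letsk [] 1 58654) 23001 1000 = true := by decide +kernel

theorem h1_24 : allR (orbC P letsk [] 1 58654) 24001 1000 = true := by decide +kernel

theorem h1_25 : allR (orbC P letsk [] 1 58654) 25001 1000 = true := by decide +kernel

theorem h1_26 : allR (orbC P letsk [] 1 58654) 26001 1000 = true := by decide +kernel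

theorem h1_27 : allR (orbC P letsk [] 1 58654) 27001 1000 = true := by decide +kernel

theorem h1_28 : allR (orbC P letsk [] 1 58654) 28001 1000 = true := by decide +kernel

theorem h1_29 : allR (orbC P letsk [] 1 58654) 29001 1000 = true := by decide +kernel

theorem h1_30 : allR (orbC P letsk [] 1 58654) 30001 1000 = true := by decide +kernel

end Cfsg.Agent.CosetEnum.ONT8
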