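import Cfsg.Agent.CosetEnum.ON.T8Data

/-! Permutation table (generated data, owner: helper66). -/

set_option autoImplicit false
set_option maxRecDepth 1000000

namespace Cfsg.Agent.CosetEnum.ONT8

theorem h1_31 : allR (orbC P letsk [] 1 58654) 31001 1000 = true := by decide +kernel

theorem h1_32 : allR (orbC P letsk [] 1 58654) 32001 1000 = true := by decide +kernel

theorem h1_33 : allR (orbC P letsk [] 1 58654) 33001 1000 = true := by decide +kernel

theorem h1_34 : allR (orbC P letsk [] 1 58654) 34001 1000 = true := by decide +kernel

theorem h1_35 : allR (orbC P letsk [] 1 58654) 35001 1000 = true := by decide +kernel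

theorem h1_36 : allR (orbC P letsk [] 1 58654) 36001 1000 = true := by decide +kernel

theorem h1_37 : allR (orbC P letsk [] 1 58654) 37001 1000 = true := by decide +kernel

theorem h1_38 : allR (orbC P letsk [] 1 58654) 38001 1000 = true := by decide +kernel

theorem h1_39 : allR (orbC P letsk [] 1 58654) 39001 1000 = true := by decide +kernel

theorem h1_40 : allR (orbC P letsk [] 1 58654) 40001 1000 = true := by decide +kernel

theorem h1_41 : allR (orbC P letsk [] 1 58654) 41001 1000 = true := by decide +kernel

theorem h1_42 : allR (orbC P letsk [] 1 58654) 42001 1000 = true := by decide +kernel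

theorem h1_43 : allR (orbC P letsk [] 1 58654) 43001 1000 = true := by decide +kernel

theorem h1_44 : allR (orbC P letsk [] 1 58654) 44001 1000 = true := by decide +kernel

theorem h1_45 : allR (orbC P letsk [] 1 58654) 45001 1000 = true := by decide +kernel

theorem h1_46 : allR (orbC P letsk [] 1 58654) 46001 1000 = true := by decide +kernel

end Cfsg.Agent.CosetEnum.ONT8
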