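import Cfsg.Agent.CosetEnum.ON.T8Data

/-! Permutation table (generated data, owner: helper66). -/

set_option autoImplicit false
set_option maxRecDepth 1000000

namespace Cfsg.Agent.CosetEnum.ONT8

theorem h1_47 : allR (orbC P letsk [] 1 58654) 47001 1000 = true := by decide +kernel

theorem h1_48 : allR (orbC P letsk [] 1 58654) 48001 1000 = true := by decide +kernel

theorem h1_49 : allR (orbC P letsk [] 1 58654) 49001 1000 = true := by decide +kernel

theorem h1_50 : allR (orbC P letsk [] 1 58654) 50001 1000 = true := by decide +kernel

theorem h1_51 : allR (orbC P letsk [] 1 58654) 51001 1000 = true := by decide +kernel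

theorem h1_52 : allR (orbC P letsk [] 1 58654) 52001 1000 = true := by decide +kernel

theorem h1_53 : allR (orbC P letsk [] 1 58654) 53001 1000 = true := by decide +kernel

theorem h1_54 : allR (orbC P letsk [] 1 58654) 54001 1000 = true := by decide +kernel

theorem h1_55 : allR (orbC P letsk [] 1 58654) 55001 1000 = true := by decide +kernel

theorem h1_56 : allR (orbC P letsk [] 1 58654) 56001 1000 = true := by decide +kernel

theorem h1_57 : allR (orbC P letsk [] 1 58654) 57001 1000 = true := by decide +kernel

theorem h1_58 : allR (orbC P letsk [] 1 58654) 58001 653 = true := by decide +kernel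

theorem h2_0 : allR (orbC P letsk [] 58654 110790) 58654 1000 = true := by decide +kernel

theorem h2_1 : allR (orbC P letsk [] 58654 110790) 59654 1000 = true := by decide +kernel

theorem h2_2 : allR (orbC P letsk [] 58654 110790) 60654 1000 = true := by decide +kernel

theorem h2_3 : allR (orbC P letsk [] 58654 110790) 61654 1000 = true := by decide +kernel

end Cfsg.Agent.CosetEnum.ONT8
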