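import Cfsg.Agent.CosetEnum.ON.T8Data

/-! Permutation table (generated data, owner: helper66). -/

set_option autoImplicit false
set_option maxRecDepth 1000000

namespace Cfsg.Agent.CosetEnum.ONT8

theorem h2_4 : allR (orbC P letsk [] 58654 110790) 62654 1000 = true := by decide +kernel

theorem h2_5 : allR (orbC P letsk [] 58654 110790) 63654 1000 = true := by decide +kernel

theorem h2_6 : allR (orbC P letsk [] 58654 110790) 64654 1000 = true := by decide +kernel

theorem h2_7 : allR (orbC P letsk [] 58654 110790) 65654 1000 = true := by decide +kernel

theorem h2_8 : allR (orbC P letsk [] 58654 110790) 66654 1000 = true := by decide +kernel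

theorem h2_9 : allR (orbC P letsk [] 58654 110790) 67654 1000 = true := by decide +kernel

theorem h2_10 : allR (orbC P letsk [] 58654 110790) 68654 1000 = true := by decide +kernel

theorem h2_11 : allR (orbC P letsk [] 58654 110790) 69654 1000 = true := by decide +kernel

theorem h2_12 : allR (orbC P letsk [] 58654 110790) 70654 1000 = true := by decide +kernel

theorem h2_13 : allR (orbC P letsk [] 58654 110790) 71654 1000 = true := by decide +kernel

theorem h2_14 : allR (orbC P letsk [] 58654 110790) 72654 1000 = true := by decide +kernel

theorem h2_15 : allR (orbC P letsk [] 58654 110790) 73654 1000 = true := by decide +kernel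

theorem h2_16 : allR (orbC P letsk [] 58654 110790) 74654 1000 = true := by decide +kernel

theorem h2_17 : allR (orbC P letsk [] 58654 110790) 75654 1000 = true := by decide +kernel

theorem h2_18 : allR (orbC P letsk [] 58654 110790) 76654 1000 = true := by decide +kernel

theorem h2_19 : allR (orbC P letsk [] 58654 110790) 77654 1000 = true := by decide +kernel

end Cfsg.Agent.CosetEnum.ONT8
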