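import Cfsg.Agent.CosetEnum.ON.T8Data

/-! Permutation table (generated data, owner: helper66). -/

set_option autoImplicit false
set_option maxRecDepth 1000000

namespace Cfsg.Agent.CosetEnum.ONT8

theorem h2_20 : allR (orbC P letsk [] 58654 110790) 78654 1000 = true := by decide +kernel

theorem h2_21 : allR (orbC P letsk [] 58654 110790) 79654 1000 = true := by decide +kernel

theorem h2_22 : allR (orbC P letsk [] 58654 110790) 80654 1000 = true := by decide +kernel

theorem h2_23 : allR (orbC P letsk [] 58654 110790) 81654 1000 = true := by decide +kernel

theorem h2_24 : allR (orbC P letsk [] 58654 110790) 82654 1000 = true := by decide +kernel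

theorem h2_25 : allR (orbC P letsk [] 58654 110790) 83654 1000 = true := by decide +kernel

theorem h2_26 : allR (orbC P letsk [] 58654 110790) 84654 1000 = true := by decide +kernel

theorem h2_27 : allR (orbC P letsk [] 58654 110790) 85654 1000 = true := by decide +kernel

theorem h2_28 : allR (orbC P letsk [] 58654 110790) 86654 1000 = true := by decide +kernel

theorem h2_29 : allR (orbC P letsk [] 58654 110790) 87654 1000 = true := by decide +kernel

theorem h2_30 : allR (orbC P letsk [] 58654 110790) 88654 1000 = true := by decide +kernel

theorem h2_31 : allR (orbC P letsk [] 58654 110790) 89654 1000 = true := by decide +kernel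

theorem h2_32 : allR (orbC P letsk [] 58654 110790) 90654 1000 = true := by decide +kernel

theorem h2_33 : allR (orbC P letsk [] 58654 110790) 91654 1000 = true := by decide +kernel

theorem h2_34 : allR (orbC P letsk [] 58654 110790) 92654 1000 = true := by decide +kernel

theorem h2_35 : allR (orbC P letsk [] 58654 110790) 93654 1000 = true := by decide +kernel

end Cfsg.Agent.CosetEnum.ONT8
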