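import Cfsg.Agent.CosetEnum.ON.T8Data

/-! Permutation table (generated data, owner: helper66). -/

set_option autoImplicit false
set_option maxRecDepth 1000000

namespace Cfsg.Agent.CosetEnum.ONT8

theorem h2_52 : allR (orbC P letsk [] 58654 110790) 110654 136 = true := by decide +kernel

theorem h3_0 : allR (orbC P letsk [] 110790 116376) 110790 1000 = true := by decide +kernel

theorem h3_1 : allR (orbC P letsk [] 110790 116376) 111790 1000 = true := by decide +kernel

theorem h3_2 : allR (orbC P letsk [] 110790 116376) 112790 1000 = true := by decide +kernel

theorem h3_3 : allR (orbC P letsk [] 110790 116376) 113790 1000 = true := by decide +kernel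

theorem h3_4 : allR (orbC P letsk [] 110790 116376) 114790 1000 = true := by decide +kernel

theorem h3_5 : allR (orbC P letsk [] 110790 116376) 115790 586 = true := by decide +kernel

theorem h4_0 : allR (orbC P letsk [] 116376 122760) 116376 1000 = true := by decide +kernel

theorem h4_1 : allR (orbC P letsk [] 116376 122760) 117376 1000 = true := by decide +kernel

theorem h4_2 : allR (orbC P letsk [] 116376 122760) 118376 1000 = true := by decide +kernel

theorem h4_3 : allR (orbC P letsk [] 116376 122760) 119376 1000 = true := by decide +kernel

theorem h4_4 : allR (orbC P letsk [] 116376 122760) 120376 1000 = true := by decide +kernel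

theorem h4_5 : allR (orbC P letsk [] 116376 122760) 121376 1000 = true := by decide +kernel

theorem h4_6 : allR (orbC P letsk [] 116376 122760) 122376 384 = true := by decide +kernel

end Cfsg.Agent.CosetEnum.ONT8
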