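import Cfsg.Agent.CosetEnum.ON.T8Data

/-! Permutation table (generated data, owner: helper66). -/

set_option autoImplicit false
set_option maxRecDepth 1000000

namespace Cfsg.Agent.CosetEnum.ONT8

theorem r40 : allR (tst P iv lets RL) 40000 1000 = true := by decide +kernel

theorem o40 : allR (orbC P lets [] 0 122760) 40000 1000 = true := by decide +kernel

theorem r41 : allR (tst P iv lets RL) 41000 1000 = true := by decide +kernel

theorem o41 : allR (orbC P lets [] 0 122760) 41000 1000 = true := by decide +kernel

theorem r42 : allR (tst P iv lets RL) 42000 1000 = true := by decide +kernel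

theorem o42 : allR (orbC P lets [] 0 122760) 42000 1000 = true := by decide +kernel

theorem r43 : allR (tst P iv lets RL) 43000 1000 = true := by decide +kernel

theorem o43 : allR (orbC P lets [] 0 122760) 43000 1000 = true := by decide +kernel

end Cfsg.Agent.CosetEnum.ONT8
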