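import Cfsg.Agent.CosetEnum.ON.T8Data

/-! Permutation table (generated data, owner: helper66). -/

set_option autoImplicit false
set_option maxRecDepth 1000000

namespace Cfsg.Agent.CosetEnum.ONT8

theorem r52 : allR (tst P iv lets RL) 52000 1000 = true := by decide +kernel

theorem o52 : allR (orbC P lets [] 0 122760) 52000 1000 = true := by decide +kernel

theorem r53 : allR (tst P iv lets RL) 53000 1000 = true := by decide +kernel

theorem o53 : allR (orbC P lets [] 0 122760) 53000 1000 = true := by decide +kernel

theorem r54 : allR (tst P iv lets RL) 54000 1000 = true := by decide +kernel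

theorem o54 : allR (orbC P lets [] 0 122760) 54000 1000 = true := by decide +kernel

theorem r55 : allR (tst P iv lets RL) 55000 1000 = true := by decide +kernel

theorem o55 : allR (orbC P lets [] 0 122760) 55000 1000 = true := by decide +kernel

end Cfsg.Agent.CosetEnum.ONT8
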