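import Cfsg.Agent.CosetEnum.ON.T8Data

/-! Permutation table (generated data, owner: helper66). -/

set_option autoImplicit false
set_option maxRecDepth 1000000

namespace Cfsg.Agent.CosetEnum.ONT8

theorem r80 : allR (tst P iv lets RL) 80000 1000 = true := by decide +kernel

theorem o80 : allR (orbC P lets [] 0 122760) 80000 1000 = true := by decide +kernel

theorem r81 : allR (tst P iv lets RL) 81000 1000 = true := by decide +kernel

theorem o81 : allR (orbC P lets [] 0 122760) 81000 1000 = true := by decide +kernel

theorem r82 : allR (tst P iv lets RL) 82000 1000 = true := by decide +kernel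

theorem o82 : allR (orbC P lets [] 0 122760) 82000 1000 = true := by decide +kernel

theorem r83 : allR (tst P iv lets RL) 83000 1000 = true := by decide +kernel

theorem o83 : allR (orbC P lets [] 0 122760) 83000 1000 = true := by decide +kernel

end Cfsg.Agent.CosetEnum.ONT8
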