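import Cfsg.Agent.CosetEnum.ON.T8Data

/-! Permutation table (generated data, owner: helper66). -/

set_option autoImplicit false
set_option maxRecDepth 1000000

namespace Cfsg.Agent.CosetEnum.ONT8

theorem r100 : allR (tst P iv lets RL) 100000 1000 = true := by decide +kernel

theorem o100 : allR (orbC P lets [] 0 122760) 100000 1000 = true := by decide +kernel

theorem r101 : allR (tst P iv lets RL) 101000 1000 = true := by decide +kernel

theorem o101 : allR (orbC P lets [] 0 122760) 101000 1000 = true := by decide +kernel

theorem r102 : allR (tst P iv lets RL) 102000 1000 = true := by decide +kernel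

theorem o102 : allR (orbC P lets [] 0 122760) 102000 1000 = true := by decide +kernel

theorem r103 : allR (tst P iv lets RL) 103000 1000 = true := by decide +kernel

theorem o103 : allR (orbC P lets [] 0 122760) 103000 1000 = true := by decide +kernel

end Cfsg.Agent.CosetEnum.ONT8
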