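import Cfsg.Agent.CosetEnum.ON.T8Data

/-! Permutation table (generated data, owner: helper66). -/

set_option autoImplicit false
set_option maxRecDepth 1000000

namespace Cfsg.Agent.CosetEnum.ONT8

theorem r120 : allR (tst P iv lets RL) 120000 1000 = true := by decide +kernel

theorem o120 : allR (orbC P lets [] 0 122760) 120000 1000 = true := by decide +kernel

theorem r121 : allR (tst P iv lets RL) 121000 1000 = true := by decide +kernel

theorem o121 : allR (orbC P lets [] 0 122760) 121000 1000 = true := by decide +kernel

theorem r122 : allR (tst P iv lets RL) 122000 760 = true := by decide +kernel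

theorem o122 : allR (orbC P lets [] 0 122760) 122000 760 = true := by decide +kernel

end Cfsg.Agent.CosetEnum.ONT8
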