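import Cfsg.Agent.CosetEnum.Level
import Cfsg.Agent.CosetEnum.ON.T8R0
import Cfsg.Agent.CosetEnum.ON.T8R1
import Cfsg.Agent.CosetEnum.ON.T8R2
import Cfsg.Agent.CosetEnum.ON.T8R3
import Cfsg.Agent.CosetEnum.ON.T8R4
import Cfsg.Agent.CosetEnum.ON.T8R5
import Cfsg.Agent.CosetEnum.ON.T8R6
import Cfsg.Agent.CosetEnum.ON.T8R7
import Cfsg.Agent.CosetEnum.ON.T8R8
import Cfsg.Agent.CosetEnum.ON.T8R9
import Cfsg.Agent.CosetEnum.ON.T8R10
import Cfsg.Agent.CosetEnum.ON.T8R11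
import Cfsg.Agent.CosetEnum.ON.T8R12
import Cfsg.Agent.CosetEnum.ON.T8R13
import Cfsg.Agent.CosetEnum.ON.T8R14
import Cfsg.Agent.CosetEnum.ON.T8R15
import Cfsg.Agent.CosetEnum.ON.T8R16
import Cfsg.Agent.CosetEnum.ON.T8R17
import Cfsg.Agent.CosetEnum.ON.T8R18
import Cfsg.Agent.CosetEnum.ON.T8R19
import Cfsg.Agent.CosetEnum.ON.T8R20
import Cfsg.Agent.CosetEnum.ON.T8R21
import Cfsg.Agent.CosetEnum.ON.T8R22
import Cfsg.Agent.CosetEnum.ON.T8R23
import Cfsg.Agent.CosetEnum.ON.T8R24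
import Cfsg.Agent.CosetEnum.ON.T8R25
import Cfsg.Agent.CosetEnum.ON.T8R26
import Cfsg.Agent.CosetEnum.ON.T8R27
import Cfsg.Agent.CosetEnum.ON.T8R28
import Cfsg.Agent.CosetEnum.ON.T8R29
import Cfsg.Agent.CosetEnum.ON.T8R30
import Cfsg.Agent.CosetEnum.ON.T8H0
import Cfsg.Agent.CosetEnum.ON.T8H1
import Cfsg.Agent.CosetEnum.ON.T8H2
import Cfsg.Agent.CosetEnum.ON.T8H3
import Cfsg.Agent.CosetEnum.ON.T8H4
import Cfsg.Agent.CosetEnum.ON.T8H5
import Cfsg.Agent.CosetEnum.ON.T8H6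
import Cfsg.Agent.CosetEnum.ON.T8H7

/-! Permutation table (generated data, owner: helper66). -/

set_option autoImplicit false
set_option maxRecDepth 1000000

namespace Cfsg.Agent.CosetEnum.ONT8

theorem st : letsB 8 iv lets RL = true := by decide +kernel

theorem sk : subB 6 iv letsk = true := by decide +kernel

theorem tabOK : TabOK P 8 iv lets RL := ⟨st, ((((((((((((((((((((((((((((((((((((((((((((((((((((((((((((((((((((((((((((((((((((((((((((((((((((((((((((((((((((((((((Cov.of r0 rfl).trans (Cov.of r1 rfl)).trans (Cov.of r2 rfl)).trans (Cov.of r3 rfl)).trans (Cov.of r4 rfl)).trans (Cov.of r5 rfl)).trans (Cov.of r6 rfl)).trans (Cov.of r7 rfl)).trans (Cov.of r8 rfl)).trans (Cov.of r9 rfl)).trans (Cov.of r10 rfl)).trans (Cov.of r11 rfl)).trans (Cov.of r12 rfl)).trans (Cov.of r13 rfl)).trans (Cov.of r14 rfl)).trans (Cov.of r15 rfl)).trans (Cov.of r16 rfl)).trans (Cov.of r17 rfl)).trans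 (Cov.of r18 rfl)).trans (Cov.of r19 rfl)).trans (Cov.of r20 rfl)).trans (Cov.of r21 rfl)).trans (Cov.of r22 rfl)).trans (Cov.of r23 rfl)).trans (Cov.of r24 rfl)).trans (Cov.of r25 rfl)).trans (Cov.of r26 rfl)).trans (Cov.of r27 rfl)).trans (Cov.of r28 rfl)).trans (Cov.of r29 rfl)).trans (Cov.of r30 rfl)).trans (Cov.of r31 rfl)).trans (Cov.of r32 rfl)).trans (Cov.of r33 rfl)).trans (Cov.of r34 rfl)).trans (Cov.of r35 rfl)).trans (Cov.of r36 rfl)).trans (Cov.of r37 rfl)).trans (Cov.of r38 rfl)).trans (Cov.of r39 rfl)).trans (Cov.of r40 rfl)).trans (Cov.of r41 rfl)).trans (Cov.of r42 rfl)).trans (Cov.of r43 rfl)).trans (Cov.of r44 rfl)).trans (Cov.of r45 rfl)).trans (Cov.of r46 rfl)).trans (Cov.of r47 rfl)).trans (Cov.of r48 rfl)).trans (Cov.of r49 rfl)).trans (Cov.of r50 rfl)).trans (Cov.of r51 rfl)).trans (Cov.of r52 rfl)).trans (Cov.of r53 rfl)).trans (Cov.of r54 rfl)).trans (Cov.of r55 rfl)).trans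 (Cov.of r56 rfl)).trans (Cov.of r57 rfl)).trans (Cov.of r58 rfl)).trans (Cov.of r59 rfl)).trans (Cov.of r60 rfl)).trans (Cov.of r61 rfl)).trans (Cov.of r62 rfl)).trans (Cov.of r63 rfl)).trans (Cov.of r64 rfl)).trans (Cov.of r65 rfl)).trans (Cov.of r66 rfl)).trans (Cov.of r67 rfl)).trans (Cov.of r68 rfl)).trans (Cov.of r69 rfl)).trans (Cov.of r70 rfl)).trans (Cov.of r71 rfl)).trans (Cov.of r72 rfl)).trans (Cov.of r73 rfl)).trans (Cov.of r74 rfl)).trans (Cov.of r75 rfl)).trans (Cov.of r76 rfl)).trans (Cov.of r77 rfl)).trans (Cov.of r78 rfl)).trans (Cov.of r79 rfl)).trans (Cov.of r80 rfl)).trans (Cov.of r81 rfl)).trans (Cov.of r82 rfl)).trans (Cov.of r83 rfl)).trans (Cov.of r84 rfl)).trans (Cov.of r85 rfl)).trans (Cov.of r86 rfl)).trans (Cov.of r87 rfl)).trans (Cov.of r88 rfl)).trans (Cov.of r89 rfl)).trans (Cov.of r90 rfl)).trans (Cov.of r91 rfl)).trans (Cov.of r92 rfl)).trans (Cov.of r93 rfl)).trans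 (Cov.of r94 rfl)).trans (Cov.of r95 rfl)).trans (Cov.of r96 rfl)).trans (Cov.of r97 rfl)).trans (Cov.of r98 rfl)).trans (Cov.of r99 rfl)).trans (Cov.of r100 rfl)).trans (Cov.of r101 rfl)).trans (Cov.of r102 rfl)).trans (Cov.of r103 rfl)).trans (Cov.of r104 rfl)).trans (Cov.of r105 rfl)).trans (Cov.of r106 rfl)).trans (Cov.of r107 rfl)).trans (Cov.of r108 rfl)).trans (Cov.of r109 rfl)).trans (Cov.of r110 rfl)).trans (Cov.of r111 rfl)).trans (Cov.of r112 rfl)).trans (Cov.of r113 rfl)).trans (Cov.of r114 rfl)).trans (Cov.of r115 rfl)).trans (Cov.of r116 rfl)).trans (Cov.of r117 rfl)).trans (Cov.of r118 rfl)).trans (Cov.of r119 rfl)).trans (Cov.of r120 rfl)).trans (Cov.of r121 rfl)).trans (Cov.of r122 rfl)⟩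

theorem covO : Cov (orbC P lets [] 0 P.m) 0 P.m := ((((((((((((((((((((((((((((((((((((((((((((((((((((((((((((((((((((((((((((((((((((((((((((((((((((((((((((((((((((((((((Cov.of o0 rfl).trans (Cov.of o1 rfl)).trans (Cov.of o2 rfl)).trans (Cov.of o3 rfl)).trans (Cov.of o4 rfl)).trans (Cov.of o5 rfl)).trans (Cov.of o6 rfl)).trans (Cov.of o7 rfl)).trans (Cov.of o8 rfl)).trans (Cov.of o9 rfl)).trans (Cov.of o10 rfl)).trans (Cov.of o11 rfl)).trans (Cov.of o12 rfl)).trans (Cov.of o13 rfl)).trans (Cov.of o14 rfl)).trans (Cov.of o15 rfl)).trans (Cov.of o16 rfl)).trans (Cov.of o17 rfl)).trans (Cov.of o18 rfl)).trans (Cov.of o19 rfl)).trans (Cov.of o20 rfl)).trans (Cov.of o21 rfl)).trans (Cov.of o22 rfl)).trans (Cov.of o23 rfl)).trans (Cov.of o24 rfl)).trans (Cov.of o25 rfl)).trans (Cov.of o26 rfl)).trans (Cov.of o27 rfl)).trans (Cov.of o28 rfl)).trans (Cov.of o29 rfl)).trans (Cov.of o30 rfl)).trans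 (Cov.of o31 rfl)).trans (Cov.of o32 rfl)).trans (Cov.of o33 rfl)).trans (Cov.of o34 rfl)).trans (Cov.of o35 rfl)).trans (Cov.of o36 rfl)).trans (Cov.of o37 rfl)).trans (Cov.of o38 rfl)).trans (Cov.of o39 rfl)).trans (Cov.of o40 rfl)).trans (Cov.of o41 rfl)).trans (Cov.of o42 rfl)).trans (Cov.of o43 rfl)).trans (Cov.of o44 rfl)).trans (Cov.of o45 rfl)).trans (Cov.of o46 rfl)).trans (Cov.of o47 rfl)).trans (Cov.of o48 rfl)).trans (Cov.of o49 rfl)).trans (Cov.of o50 rfl)).trans (Cov.of o51 rfl)).trans (Cov.of o52 rfl)).trans (Cov.of o53 rfl)).trans (Cov.of o54 rfl)).trans (Cov.of o55 rfl)).trans (Cov.of o56 rfl)).trans (Cov.of o57 rfl)).trans (Cov.of o58 rfl)).trans (Cov.of o59 rfl)).trans (Cov.of o60 rfl)).trans (Cov.of o61 rfl)).trans (Cov.of o62 rfl)).trans (Cov.of o63 rfl)).trans (Cov.of o64 rfl)).trans (Cov.of o65 rfl)).trans (Cov.of o66 rfl)).trans (Cov.of o67 rfl)).trans (Cov.of o68 rfl)).trans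 (Cov.of o69 rfl)).trans (Cov.of o70 rfl)).trans (Cov.of o71 rfl)).trans (Cov.of o72 rfl)).trans (Cov.of o73 rfl)).trans (Cov.of o74 rfl)).trans (Cov.of o75 rfl)).trans (Cov.of o76 rfl)).trans (Cov.of o77 rfl)).trans (Cov.of o78 rfl)).trans (Cov.of o79 rfl)).trans (Cov.of o80 rfl)).trans (Cov.of o81 rfl)).trans (Cov.of o82 rfl)).trans (Cov.of o83 rfl)).trans (Cov.of o84 rfl)).trans (Cov.of o85 rfl)).trans (Cov.of o86 rfl)).trans (Cov.of o87 rfl)).trans (Cov.of o88 rfl)).trans (Cov.of o89 rfl)).trans (Cov.of o90 rfl)).trans (Cov.of o91 rfl)).trans (Cov.of o92 rfl)).trans (Cov.of o93 rfl)).trans (Cov.of o94 rfl)).trans (Cov.of o95 rfl)).trans (Cov.of o96 rfl)).trans (Cov.of o97 rfl)).trans (Cov.of o98 rfl)).trans (Cov.of o99 rfl)).trans (Cov.of o100 rfl)).trans (Cov.of o101 rfl)).trans (Cov.of o102 rfl)).trans (Cov.of o103 rfl)).trans (Cov.of o104 rfl)).trans (Cov.of o105 rfl)).trans (Cov.of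 o106 rfl)).trans (Cov.of o107 rfl)).trans (Cov.of o108 rfl)).trans (Cov.of o109 rfl)).trans (Cov.of o110 rfl)).trans (Cov.of o111 rfl)).trans (Cov.of o112 rfl)).trans (Cov.of o113 rfl)).trans (Cov.of o114 rfl)).trans (Cov.of o115 rfl)).trans (Cov.of o116 rfl)).trans (Cov.of o117 rfl)).trans (Cov.of o118 rfl)).trans (Cov.of o119 rfl)).trans (Cov.of o120 rfl)).trans (Cov.of o121 rfl)).trans (Cov.of o122 rfl)

theorem hc0 : Cov (orbC P letsk [] 0 1) 0 1 := Cov.of h0_0 rfl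

theorem hc1 : Cov (orbC P letsk [] 1 58654) 1 58654 := ((((((((((((((((((((((((((((((((((((((((((((((((((((((((((Cov.of h1_0 rfl).trans (Cov.of h1_1 rfl)).trans (Cov.of h1_2 rfl)).trans (Cov.of h1_3 rfl)).trans (Cov.of h1_4 rfl)).trans (Cov.of h1_5 rfl)).trans (Cov.of h1_6 rfl)).trans (Cov.of h1_7 rfl)).trans (Cov.of h1_8 rfl)).trans (Cov.of h1_9 rfl)).trans (Cov.of h1_10 rfl)).trans (Cov.of h1_11 rfl)).trans (Cov.of h1_12 rfl)).trans (Cov.of h1_13 rfl)).trans (Cov.of h1_14 rfl)).trans (Cov.of h1_15 rfl)).trans (Cov.of h1_16 rfl)).trans (Cov.of h1_17 rfl)).trans (Cov.of h1_18 rfl)).trans (Cov.of h1_19 rfl)).trans (Cov.of h1_20 rfl)).trans (Cov.of h1_21 rfl)).trans (Cov.of h1_22 rfl)).trans (Cov.of h1_23 rfl)).trans (Cov.of h1_24 rfl)).trans (Cov.of h1_25 rfl)).trans (Cov.of h1_26 rfl)).trans (Cov.of h1_27 rfl)).trans (Cov.of h1_28 rfl)).trans (Cov.of h1_29 rfl)).trans (Cov.of h1_30 rfl)).trans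 (Cov.of h1_31 rfl)).trans (Cov.of h1_32 rfl)).trans (Cov.of h1_33 rfl)).trans (Cov.of h1_34 rfl)).trans (Cov.of h1_35 rfl)).trans (Cov.of h1_36 rfl)).trans (Cov.of h1_37 rfl)).trans (Cov.of h1_38 rfl)).trans (Cov.of h1_39 rfl)).trans (Cov.of h1_40 rfl)).trans (Cov.of h1_41 rfl)).trans (Cov.of h1_42 rfl)).trans (Cov.of h1_43 rfl)).trans (Cov.of h1_44 rfl)).trans (Cov.of h1_45 rfl)).trans (Cov.of h1_46 rfl)).trans (Cov.of h1_47 rfl)).trans (Cov.of h1_48 rfl)).trans (Cov.of h1_49 rfl)).trans (Cov.of h1_50 rfl)).trans (Cov.of h1_51 rfl)).trans (Cov.of h1_52 rfl)).trans (Cov.of h1_53 rfl)).trans (Cov.of h1_54 rfl)).trans (Cov.of h1_55 rfl)).trans (Cov.of h1_56 rfl)).trans (Cov.of h1_57 rfl)).trans (Cov.of h1_58 rfl)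

theorem hc2 : Cov (orbC P letsk [] 58654 110790) 58654 110790 := ((((((((((((((((((((((((((((((((((((((((((((((((((((Cov.of h2_0 rfl).trans (Cov.of h2_1 rfl)).trans (Cov.of h2_2 rfl)).trans (Cov.of h2_3 rfl)).trans (Cov.of h2_4 rfl)).trans (Cov.of h2_5 rfl)).trans (Cov.of h2_6 rfl)).trans (Cov.of h2_7 rfl)).trans (Cov.of h2_8 rfl)).trans (Cov.of h2_9 rfl)).trans (Cov.of h2_10 rfl)).trans (Cov.of h2_11 rfl)).trans (Cov.of h2_12 rfl)).trans (Cov.of h2_13 rfl)).trans (Cov.of h2_14 rfl)).trans (Cov.of h2_15 rfl)).trans (Cov.of h2_16 rfl)).trans (Cov.of h2_17 rfl)).trans (Cov.of h2_18 rfl)).trans (Cov.of h2_19 rfl)).trans (Cov.of h2_20 rfl)).trans (Cov.of h2_21 rfl)).trans (Cov.of h2_22 rfl)).trans (Cov.of h2_23 rfl)).trans (Cov.of h2_24 rfl)).trans (Cov.of h2_25 rfl)).trans (Cov.of h2_26 rfl)).trans (Cov.of h2_27 rfl)).trans (Cov.of h2_28 rfl)).trans (Cov.of h2_29 rfl)).trans (Cov.of h2_30 rfl)).trans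 (Cov.of h2_31 rfl)).trans (Cov.of h2_32 rfl)).trans (Cov.of h2_33 rfl)).trans (Cov.of h2_34 rfl)).trans (Cov.of h2_35 rfl)).trans (Cov.of h2_36 rfl)).trans (Cov.of h2_37 rfl)).trans (Cov.of h2_38 rfl)).trans (Cov.of h2_39 rfl)).trans (Cov.of h2_40 rfl)).trans (Cov.of h2_41 rfl)).trans (Cov.of h2_42 rfl)).trans (Cov.of h2_43 rfl)).trans (Cov.of h2_44 rfl)).trans (Cov.of h2_45 rfl)).trans (Cov.of h2_46 rfl)).trans (Cov.of h2_47 rfl)).trans (Cov.of h2_48 rfl)).trans (Cov.of h2_49 rfl)).trans (Cov.of h2_50 rfl)).trans (Cov.of h2_51 rfl)).trans (Cov.of h2_52 rfl)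

theorem hc3 : Cov (orbC P letsk [] 110790 116376) 110790 116376 := (((((Cov.of h3_0 rfl).trans (Cov.of h3_1 rfl)).trans (Cov.of h3_2 rfl)).trans (Cov.of h3_3 rfl)).trans (Cov.of h3_4 rfl)).trans (Cov.of h3_5 rfl)

theorem hc4 : Cov (orbC P letsk [] 116376 122760) 116376 122760 := ((((((Cov.of h4_0 rfl).trans (Cov.of h4_1 rfl)).trans (Cov.of h4_2 rfl)).trans (Cov.of h4_3 rfl)).trans (Cov.of h4_4 rfl)).trans (Cov.of h4_5 rfl)).trans (Cov.of h4_6 rfl)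

theorem orbs : Orbs P letsk [] [0, 1, 58654, 110790, 116376, 122760] :=
  ⟨by decide +kernel, by decide +kernel, hc0, ⟨by decide +kernel, by decide +kernel, hc1, ⟨by decide +kernel, by decide +kernel, hc2, ⟨by decide +kernel, by decide +kernel, hc3, ⟨by decide +kernel, by decide +kernel, hc4, trivial⟩⟩⟩⟩⟩

theorem last : lastD 1 [58654, 110790, 116376, 122760] = P.m := rfl

end Cfsg.Agent.CosetEnum.ONT8
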