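import Cfsg.Agent.CosetEnum.ON.Pres
import Cfsg.Agent.CosetEnum.ON.H
import Cfsg.Agent.CosetEnum.ON.A
import Cfsg.Agent.CosetEnum.ON.T8
import Cfsg.Agent.CosetEnum.ON.K1

/-!
Order and simplicity of the presented O'Nan group (owner: helper66).
-/

set_option autoImplicit false
set_option maxRecDepth 1000000

namespace Cfsg.Agent.CosetEnum.ON

open MulAction

section

variable {G : Type} [Group G] {g : ℕ → G} (U : Univ g 8 ONT8.iv ONT8.RL)

include U

theorem L8 : Lvl g 8 ONT8.iv ONT8.lets ONT8.P 6 [58654, 110790, 116376, 122760] :=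
  lvl_of U ONT8.tabOK ONT8.sk (by norm_num) ONT8.covO ONT8.orbs ONT8.last (show 1 < 122760 by norm_num)
    (ONA.cert.cl U.good (by decide +kernel) (by decide +kernel) (by norm_num))

/-- two letters are different -/
theorem g12 : g 1 * g 2 ≠ 1 := by
  intro h
  obtain ⟨A, hA, _⟩ := ONT8.tabOK.exists_action U
  have h1 : val (fun x => (g x)⁻¹) [1, 2] = 1 := by
    rw [val_inv]
    simp [h]
  have h2 := hA.word (u := [1, 2]) (by decide) ⟨1, (show 1 < 122760 by norm_num)⟩
  rw [h1, one_smul] at h2
  have h3 : (1 : ℕ) = actW ONT8.P [1, 2] 1 := h2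
  have h4 : Nat.beq (actW ONT8.P [1, 2] 1) 1 = false := by decide +kernel
  rw [← h3] at h4
  exact absurd h4 (by decide)

/-- `L₃(7) : 2` in the O'Nan group -/
theorem sub86 : ∃ e : Q6 ≃* Cl g 6, ∀ y, isLet 6 y = true → ((e (q6 y) : Cl g 6) : G) = g y := by
  have hg : Good (cut g 6) 6 ONB.iv ONB.RL := U.good.cut (by decide +kernel)
  let g' : ℕ → Cl g 6 := fun y => if hy : isLet 6 y = true then ⟨g y, mem_Cl g hy⟩ else 1
  have hcoe : ∀ y, ((g' y : Cl g 6) : G) = CosetEnum.cut g 6 y := by
    intro y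
    by_cases hy : isLet 6 y = true
    · simp [g', CosetEnum.cut, hy]
    · simp [g', CosetEnum.cut, hy]
  have hg' : Good g' 6 ONB.iv ONB.RL := by
    constructor
    · intro y
      apply Subtype.ext
      rw [hcoe, hg.inv]
      simp [hcoe]
    · intro y hy
      apply Subtype.ext
      rw [hcoe, hg.one y hy]
      rfl
    · intro p hp
      apply Subtype.ext
      have : (((p.1.map g').prod ^ p.2 : Cl g 6) : G) = ((p.1.map (CosetEnum.cut g 6)).prod) ^ p.2 := by
        have h3 : (fun y => ((g' y : Cl g 6) : G)) = CosetEnum.cut g 6 := funext hcoe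
        rw [← h3]
        simp [Function.comp_def]
      rw [this, hg.rel p hp]
      rfl
  obtain ⟨φ, hφ⟩ := U6.univ _ g' hg'
  have hker : φ.ker = ⊥ := by
    rcases normal6 φ.ker inferInstance with h | h
    · exact h
    · exfalso
      have h1 := h q12_mem
      rw [MonoidHom.mem_ker, map_mul, hφ, hφ] at h1
      have h4 := congrArg (fun z : Cl g 6 => (z : G)) h1
      simp only [Subgroup.coe_mul, hcoe, CosetEnum.cut, if_pos (show isLet 6 1 = true from rfl),
        if_pos (show isLet 6 2 = true from rfl), Subgroup.coe_one] at h4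
      exact g12 U h4
  have hinj : Function.Injective φ := (MonoidHom.ker_eq_bot_iff φ).1 hker
  have hsurj : Function.Surjective φ := by
    rw [← MonoidHom.range_eq_top]
    rw [eq_top_iff]
    rintro ⟨y, hy⟩ _
    have key : ∀ y (hy : y ∈ Cl g 6), (⟨y, hy⟩ : Cl g 6) ∈ φ.range := by
      intro y hy
      induction hy using Subgroup.closure_induction with
      | mem y hy =>
        obtain ⟨z, hz, rfl⟩ := hy
        refine ⟨q6 z, ?_⟩
        rw [hφ]
        apply Subtype.ext
        rw [hcoe, CosetEnum.cut, if_pos (show isLet 6 z = true from hz)]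
      | one => exact φ.range.one_mem
      | mul y z _ _ h1 h2 => exact φ.range.mul_mem h1 h2
      | inv y _ h1 => exact φ.range.inv_mem h1
    exact key y hy
  refine ⟨MulEquiv.ofBijective φ ⟨hinj, hsurj⟩, fun y hy => ?_⟩
  show ((φ (q6 y) : Cl g 6) : G) = g y
  rw [hφ, hcoe, CosetEnum.cut, if_pos hy]

theorem card86 : Nat.card (Cl g 6) = 3753792 := by
  obtain ⟨e, _⟩ := sub86 U
  rw [← card6]
  exact (Nat.card_congr e.toEquiv).symm

theorem fin86 : Finite (Cl g 6) := Nat.finite_of_card_ne_zero (by rw [card86 U]; norm_num)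

theorem card8 : Nat.card G = 460815505920 := by
  rw [(L8 U).card, card86 U]
  rfl

theorem index86 : (Cl g 6).index = 122760 := (L8 U).index

theorem collapse8 (N : Subgroup G) (hN : N.Normal) (h : g 1 * g 2 ∈ N) : N = ⊤ := by
  refine collapse U.good U.top N (es := [[1, 2]]) ?_ ONK1.cert
  intro e he
  rw [List.mem_singleton] at he
  subst he
  simpa using h

theorem simple8 : IsSimpleGroup G := by
  obtain ⟨e, he⟩ := sub86 U
  have h12 : ((e (q6 1 * q6 2) : Cl g 6) : G) = g 1 * g 2 := by
    rw [map_mul, Subgroup.coe_mul, he 1 rfl, he 2 rfl]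
  have hD12 : g 1 * g 2 ∈ (D6.map e.toMonoidHom).map (Cl g 6).subtype := by
    rw [← h12]
    exact ⟨_, ⟨_, q12_mem, rfl⟩, rfl⟩
  refine (L8 U).simple_gen U.good.inv (fin86 U) (by decide +kernel)
    (noReg_primes {2, 3, 5, 11, 31} ?_ (by decide +kernel) (by decide +kernel))
    ((D6.map e.toMonoidHom).map (Cl g 6).subtype) ?_ ?_ ?_
  · intro p hp
    simp only [Finset.mem_insert, Finset.mem_singleton] at hp
    rcases hp with rfl | rfl | rfl | rfl | rfl
    · exact ⟨by norm_num, show 2 ∣ 122760 by norm_num⟩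
    · exact ⟨by norm_num, show 3 ∣ 122760 by norm_num⟩
    · exact ⟨by norm_num, show 5 ∣ 122760 by norm_num⟩
    · exact ⟨by norm_num, show 11 ∣ 122760 by norm_num⟩
    · exact ⟨by norm_num, show 31 ∣ 122760 by norm_num⟩
  · intro K hK hn
    have h1 : ((K.subgroupOf (Cl g 6)).comap e.toMonoidHom).Normal := by
      have : (K.subgroupOf (Cl g 6)).Normal := ⟨fun y hy h => hn h h.2 y hy⟩
      exact this.comap _
    rcases normal6 _ h1 with h | h
    · left
      rw [eq_bot_iff]
      intro x hx
      have h2 : e.symm ⟨x, hK hx⟩ ∈ (K.subgroupOf (Cl g 6)).comap e.toMonoidHom := by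
        show ((e (e.symm ⟨x, hK hx⟩) : Cl g 6) : G) ∈ K
        rw [MulEquiv.apply_symm_apply]
        exact hx
      rw [h, Subgroup.mem_bot] at h2
      have h3 := congrArg e h2
      rw [MulEquiv.apply_symm_apply, map_one] at h3
      rw [Subgroup.mem_bot]
      exact congrArg Subtype.val h3
    · right
      rintro _ ⟨_, ⟨y, hy, rfl⟩, rfl⟩
      exact h hy
  · intro N hN hD hle
    have h1 := collapse8 U N hN (hD hD12)
    rw [h1] at hle
    have h2 := (L8 U).index
    rw [top_le_iff.1 hle, Subgroup.index_top] at h2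
    exact absurd h2 (show (1 : ℕ) ≠ 122760 by norm_num)
  · intro N hN hD _
    exact collapse8 U N hN (hD hD12)

end

end Cfsg.Agent.CosetEnum.ON
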