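import Cfsg.Agent.CosetEnum.Cox
import Cfsg.Agent.CosetEnum.ON.T8Data
import Cfsg.Prelude.Def_Spor_ON

/-!
The presented O'Nan group as a universal family (owner: helper66).
-/

set_option autoImplicit false
set_option maxRecDepth 1000000

namespace Cfsg.Agent.CosetEnum.ON

open Cfsg.Spor Cfsg.Spor.ON

/-- numbers of the generators -/
def v : Gen → ℕ
  | .a => 1 | .b => 2 | .c => 3 | .d => 4 | .f => 5 | .e => 6 | .g => 7

/-- the generators -/
def gS : ℕ → Spor.ON
  | 1 => PresentedGroup.of .a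
  | 2 => PresentedGroup.of .b
  | 3 => PresentedGroup.of .c
  | 4 => PresentedGroup.of .d
  | 5 => PresentedGroup.of .f
  | 6 => PresentedGroup.of .e
  | 7 => PresentedGroup.of .g
  | 8 => (PresentedGroup.of .g)⁻¹
  | _ => 1

theorem gS_v (x : Gen) : gS (v x) = PresentedGroup.of x := by cases x <;> rfl

theorem sq (x : Gen) (hx : x ≠ .g) : (PresentedGroup.of x * PresentedGroup.of x : Spor.ON) = 1 := by
  have h := of_coxPairs (S := {r | r ∈ extra}) gS_v ([v x, v x], 1) (by
    cases x <;> first | exact absurd rfl hx | decide +kernel)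
  simpa [gS_v] using h

theorem gS_good : Good gS 8 ONT8.iv ONT8.RL where
  inv x := by
    have h : ∀ y : Gen, y ≠ .g → (PresentedGroup.of y : Spor.ON) = (PresentedGroup.of y)⁻¹ := fun y hy =>
      eq_inv_of_mul_eq_one_left (sq y hy)
    match x with
    | 0 => exact inv_one.symm
    | 1 => exact h _ (by decide)
    | 2 => exact h _ (by decide)
    | 3 => exact h _ (by decide)
    | 4 => exact h _ (by decide)
    | 5 => exact h _ (by decide)
    | 6 => exact h _ (by decide)
    | 7 => rfl
    | 8 => exact (inv_inv _).symm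
    | (n + 9) =>
      have : ivL ONT8.iv (n + 9) = n + 9 := by simp [ivL, ONT8.iv]
      rw [this]
      exact inv_one.symm
  one x hx := by
    match x with
    | 0 => rfl
    | 1 => exact absurd hx (by decide)
    | 2 => exact absurd hx (by decide)
    | 3 => exact absurd hx (by decide)
    | 4 => exact absurd hx (by decide)
    | 5 => exact absurd hx (by decide)
    | 6 => exact absurd hx (by decide)
    | 7 => exact absurd hx (by decide)
    | 8 => exact absurd hx (by decide)
    | (n + 9) => rfl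
  rel := by
    have h1 : ∀ p ∈ ONT8.RL, p ∈ coxPairs Cfsg.Spor.ON.edges v ∨ p ∈ ONT8.RL.drop 15 := by decide +kernel
    intro p hp
    rcases h1 p hp with h | h
    · exact of_coxPairs gS_v p h
    · have h1 := ex_rel (edges := Cfsg.Spor.ON.edges) (extra := Cfsg.Spor.ON.extra) (r := (a * f) * ((g ^ 2)⁻¹))
        (by unfold extra; simp only [List.mem_cons, true_or, or_true])
      have h2 := ex_rel (edges := Cfsg.Spor.ON.edges) (extra := Cfsg.Spor.ON.extra) (r := (a * f) * (((c * d) ^ 4)⁻¹))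
        (by unfold extra; simp only [List.mem_cons, true_or, or_true])
      have h3 := ex_rel (edges := Cfsg.Spor.ON.edges) (extra := Cfsg.Spor.ON.extra)
        (r := c * ((d * g * d * g)⁻¹ * c * (d * g * d * g)))
        (by unfold extra; simp only [List.mem_cons, true_or, or_true])
      have h4 := ex_rel (edges := Cfsg.Spor.ON.edges) (extra := Cfsg.Spor.ON.extra)
        (r := d * ((c * g * c * g)⁻¹ * d * (c * g * c * g)))
        (by unfold extra; simp only [List.mem_cons, true_or, or_true])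
      have h5 := ex_rel (edges := Cfsg.Spor.ON.edges) (extra := Cfsg.Spor.ON.extra) (r := (b * c * d * g) ^ 5)
        (by unfold extra; simp only [List.mem_cons, true_or, or_true])
      have h6 := ex_rel (edges := Cfsg.Spor.ON.edges) (extra := Cfsg.Spor.ON.extra)
        (r := g * b * (c⁻¹ * g * c) * (b⁻¹ * g * b) * (c⁻¹ * g * c))
        (by unfold extra; simp only [List.mem_cons, true_or, or_true])
      have h7 := ex_rel (edges := Cfsg.Spor.ON.edges) (extra := Cfsg.Spor.ON.extra)
        (r := g * e * (d⁻¹ * g * d) * (e⁻¹ * g * e) * (d⁻¹ * g * d))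
        (by unfold extra; simp only [List.mem_cons, true_or, or_true])
      simp only [ONT8.RL, List.drop, List.mem_cons, List.not_mem_nil, or_false] at h
      have hi : ∀ y : Gen, y ≠ .g → (PresentedGroup.of y : Spor.ON)⁻¹ = PresentedGroup.of y := fun y hy =>
        (eq_inv_of_mul_eq_one_left (sq y hy)).symm
      have ha := hi .a (by decide)
      have hb := hi .b (by decide)
      have hc := hi .c (by decide)
      have hd := hi .d (by decide)
      have he := hi .e (by decide)
      have hf := hi .f (by decide)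
      simp only [map_mul, map_pow, map_inv, Cfsg.Spor.ON.a, Cfsg.Spor.ON.b,
        Cfsg.Spor.ON.c, Cfsg.Spor.ON.d, Cfsg.Spor.ON.e, Cfsg.Spor.ON.f, Cfsg.Spor.ON.g, FreeGroup.lift_apply_of,
        mul_inv_rev, ha, hb, hc, hd, he, hf] at h1 h2 h3 h4 h5 h6 h7
      rcases h with rfl | rfl | rfl | rfl | rfl | rfl | rfl
      · simpa [gS, pow_succ, mul_assoc, mul_inv_rev, ha, hb, hc, hd, he, hf] using h1
      · simpa [gS, pow_succ, mul_assoc, mul_inv_rev, ha, hb, hc, hd, he, hf] using h2
      · simpa [gS, pow_succ, mul_assoc, mul_inv_rev, ha, hb, hc, hd, he, hf] using h3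
      · simpa [gS, pow_succ, mul_assoc, mul_inv_rev, ha, hb, hc, hd, he, hf] using h4
      · simpa [gS, mul_assoc] using h5
      · simpa [gS, mul_assoc] using h6
      · simpa [gS, mul_assoc] using h7

theorem gS_univ : Univ gS 8 ONT8.iv ONT8.RL := by
  refine univ_cox (v := v) gS_v gS_good (by decide +kernel) ?_
  intro H _ h hh
  have hi : ∀ x, x < 7 → (h x)⁻¹ = h x := by
    intro x hx
    have h1 := hh.inv x
    have h2 : ivL ONT8.iv x = x := by
      have h3 : x ≠ 7 := by omega
      have h4 : x ≠ 8 := by omega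
      simp [ivL, ONT8.iv, h3, h4]
    rw [h2] at h1
    exact h1.symm
  have i1 := hi 1 (by norm_num)
  have i2 := hi 2 (by norm_num)
  have i3 := hi 3 (by norm_num)
  have i4 := hi 4 (by norm_num)
  have i5 := hi 5 (by norm_num)
  have i6 := hi 6 (by norm_num)
  have i8 : h 8 = (h 7)⁻¹ := hh.inv 7
  constructor
  · have h1 := hh.rel ([1, 5, 8, 8], 1) (by decide +kernel)
    have h2 := hh.rel ([1, 5, 4, 3, 4, 3, 4, 3, 4, 3], 1) (by decide +kernel)
    have h3 := hh.rel ([3, 8, 4, 8, 4, 3, 4, 7, 4, 7], 1) (by decide +kernel)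
    have h4 := hh.rel ([4, 8, 3, 8, 3, 4, 3, 7, 3, 7], 1) (by decide +kernel)
    have h5 := hh.rel ([2, 3, 4, 7], 5) (by decide +kernel)
    have h6 := hh.rel ([7, 2, 3, 7, 3, 2, 7, 2, 3, 7, 3], 1) (by decide +kernel)
    have h7 := hh.rel ([7, 6, 4, 7, 4, 6, 7, 6, 4, 7, 4], 1) (by decide +kernel)
    unfold extra
    simp only [List.forall_mem_cons, map_mul, map_pow, map_inv, Cfsg.Spor.ON.a, Cfsg.Spor.ON.b,
        Cfsg.Spor.ON.c, Cfsg.Spor.ON.d, Cfsg.Spor.ON.e, Cfsg.Spor.ON.f, Cfsg.Spor.ON.g, FreeGroup.lift_apply_of,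
        mul_inv_rev, List.not_mem_nil, false_imp_iff, implies_true, and_true, v]
    refine ⟨?_, ?_, ?_, ?_, ?_, ?_, ?_⟩
    · simpa [pow_succ, mul_assoc, mul_inv_rev, i1, i2, i3, i4, i5, i6, i8] using h1
    · simpa [pow_succ, mul_assoc, mul_inv_rev, i1, i2, i3, i4, i5, i6, i8] using h2
    · simpa [pow_succ, mul_assoc, mul_inv_rev, i1, i2, i3, i4, i5, i6, i8] using h3
    · simpa [pow_succ, mul_assoc, mul_inv_rev, i1, i2, i3, i4, i5, i6, i8] using h4
    · simpa [mul_assoc] using h5
    · simpa [mul_assoc, i1, i2, i3, i4, i5, i6] using h6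
    · simpa [mul_assoc, i1, i2, i3, i4, i5, i6] using h7
  · intro φ hφ x
    match x with
    | 0 => exact (map_one φ).trans (hh.one 0 rfl).symm
    | 1 => exact hφ .a
    | 2 => exact hφ .b
    | 3 => exact hφ .c
    | 4 => exact hφ .d
    | 5 => exact hφ .f
    | 6 => exact hφ .e
    | 7 => exact hφ .g
    | 8 =>
      rw [i8]
      have := hφ .g
      show φ ((PresentedGroup.of .g)⁻¹) = (h 7)⁻¹
      rw [map_inv]
      exact congrArg _ this
    | (n + 9) => exact (map_one φ).trans (hh.one (n + 9) (isLet_false (by omega))).symm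

/-- the subgroup generated by `a, …, f` -/
theorem on_sub6 : (Subgroup.closure ({Cfsg.Spor.ON.a, Cfsg.Spor.ON.b, Cfsg.Spor.ON.c, Cfsg.Spor.ON.d,
    Cfsg.Spor.ON.e, Cfsg.Spor.ON.f} : Set (FreeGroup Cfsg.Spor.ON.Gen))).map
      (PresentedGroup.mk (coxRelators Cfsg.Spor.ON.edges ∪ {r | r ∈ Cfsg.Spor.ON.extra})) = Cl gS 6 := by
  apply closure_map
  · intro x hx
    rw [isLet_iff] at hx
    match x, hx with
    | 1, _ => exact ⟨Cfsg.Spor.ON.a, by simp, rfl⟩
    | 2, _ => exact ⟨Cfsg.Spor.ON.b, by simp, rfl⟩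
    | 3, _ => exact ⟨Cfsg.Spor.ON.c, by simp, rfl⟩
    | 4, _ => exact ⟨Cfsg.Spor.ON.d, by simp, rfl⟩
    | 5, _ => exact ⟨Cfsg.Spor.ON.f, by simp, rfl⟩
    | 6, _ => exact ⟨Cfsg.Spor.ON.e, by simp, rfl⟩
    | (n + 7), h => omega
  · intro s hs
    simp only [Set.mem_insert_iff, Set.mem_singleton_iff] at hs
    rcases hs with rfl | rfl | rfl | rfl | rfl | rfl
    · exact mem_Cl gS (x := 1) rfl
    · exact mem_Cl gS (x := 2) rfl
    · exact mem_Cl gS (x := 3) rfl
    · exact mem_Cl gS (x := 4) rfl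
    · exact mem_Cl gS (x := 6) rfl
    · exact mem_Cl gS (x := 5) rfl

end Cfsg.Agent.CosetEnum.ON
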