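import Cfsg.Agent.CosetEnum.Cox
import Cfsg.Agent.ClassBase.PSL
import Cfsg.Agent.H4.CardSL
import Cfsg.Agent.CosetEnum.ON.BData

/-!
The automorphism group of `SL(3, 7)` as a target of the subgroup `⟨a, …, f⟩` of the O'Nan group (owner: helper66).
-/

set_option autoImplicit false
set_option maxRecDepth 1000000

namespace Cfsg.Agent.CosetEnum.ON

open Matrix

abbrev Z7 : Type := ZMod 7

abbrev SL37 : Type := Matrix.SpecialLinearGroup (Fin 3) (ZMod 7)

instance : Fact (Nat.Prime 7) := ⟨by norm_num⟩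

/-- digit of a packed matrix -/
def dg (m t : ℕ) : ℕ := (m / t) % 8

def ent (m n a b c x y z : ℕ) : ℕ := (dg m a * dg n x + dg m b * dg n y + dg m c * dg n z) % 7

/-- product of packed matrices -/
def mulM (m n : ℕ) : ℕ :=
  ent m n 1 8 64 1 512 262144 + 8 * ent m n 1 8 64 8 4096 2097152 + 64 * ent m n 1 8 64 64 32768 16777216 +
  512 * ent m n 512 4096 32768 1 512 262144 + 4096 * ent m n 512 4096 32768 8 4096 2097152 +
  32768 * ent m n 512 4096 32768 64 32768 16777216 +
  262144 * ent m n 262144 2097152 16777216 1 512 262144 +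
  2097152 * ent m n 262144 2097152 16777216 8 4096 2097152 +
  16777216 * ent m n 262144 2097152 16777216 64 32768 16777216

/-- the matrix -/
def toM (m : ℕ) : Matrix (Fin 3) (Fin 3) (ZMod 7) :=
  !![(dg m 1 : ZMod 7), (dg m 8 : ZMod 7), (dg m 64 : ZMod 7);
     (dg m 512 : ZMod 7), (dg m 4096 : ZMod 7), (dg m 32768 : ZMod 7);
     (dg m 262144 : ZMod 7), (dg m 2097152 : ZMod 7), (dg m 16777216 : ZMod 7)]

theorem ent_lt (m n a b c x y z : ℕ) : ent m n a b c x y z < 7 := Nat.mod_lt _ (by norm_num)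

theorem ent_cast (m n a b c x y z : ℕ) : ((ent m n a b c x y z : ℕ) : ZMod 7) =
    (dg m a : ZMod 7) * dg n x + dg m b * dg n y + dg m c * dg n z := by
  unfold ent
  rw [ZMod.natCast_mod]
  push_cast
  ring

theorem toM_mul (m n : ℕ) : toM (mulM m n) = toM m * toM n := by
  have h : ∀ e0 e1 e2 e3 e4 e5 e6 e7 e8 : ℕ, e0 < 7 → e1 < 7 → e2 < 7 → e3 < 7 → e4 < 7 → e5 < 7 → e6 < 7 → e7 < 7 →
      e8 < 7 → toM (e0 + 8 * e1 + 64 * e2 + 512 * e3 + 4096 * e4 + 32768 * e5 + 262144 * e6 + 2097152 * e7 +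
        16777216 * e8) = !![(e0 : ZMod 7), (e1 : ZMod 7), (e2 : ZMod 7); (e3 : ZMod 7), (e4 : ZMod 7), (e5 : ZMod 7);
          (e6 : ZMod 7), (e7 : ZMod 7), (e8 : ZMod 7)] := by
    intro e0 e1 e2 e3 e4 e5 e6 e7 e8 h0 h1 h2 h3 h4 h5 h6 h7 h8
    generalize hN : e0 + 8 * e1 + 64 * e2 + 512 * e3 + 4096 * e4 + 32768 * e5 + 262144 * e6 + 2097152 * e7 +
        16777216 * e8 = N
    have g0 : dg N 1 = e0 := by unfold dg; omega
    have g1 : dg N 8 = e1 := by unfold dg; omega
    have g2 : dg N 64 = e2 := by unfold dg; omega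
    have g3 : dg N 512 = e3 := by unfold dg; omega
    have g4 : dg N 4096 = e4 := by unfold dg; omega
    have g5 : dg N 32768 = e5 := by unfold dg; omega
    have g6 : dg N 262144 = e6 := by unfold dg; omega
    have g7 : dg N 2097152 = e7 := by unfold dg; omega
    have g8 : dg N 16777216 = e8 := by unfold dg; omega
    unfold toM
    rw [g0, g1, g2, g3, g4, g5, g6, g7, g8]
  unfold mulM
  rw [h _ _ _ _ _ _ _ _ _ (ent_lt _ _ _ _ _ _ _ _) (ent_lt _ _ _ _ _ _ _ _) (ent_lt _ _ _ _ _ _ _ _)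
    (ent_lt _ _ _ _ _ _ _ _) (ent_lt _ _ _ _ _ _ _ _) (ent_lt _ _ _ _ _ _ _ _) (ent_lt _ _ _ _ _ _ _ _)
    (ent_lt _ _ _ _ _ _ _ _) (ent_lt _ _ _ _ _ _ _ _)]
  simp only [ent_cast]
  ext i j
  fin_cases i <;> fin_cases j <;> simp [toM, Matrix.mul_apply, Fin.sum_univ_three]

/-- matrices of the letters, and their inverse transposes -/
def cA : ℕ → ℕ
  | 1 => 16781313 | 2 => 30364361 | 3 => 100937793 | 4 => 798912 | 5 => 50348035 | 6 => 88429128 | _ => 16781313

def cB : ℕ → ℕ
  | 1 => 16781313 | 2 => 76965724 | 3 => 51400964 | 4 => 1331520 | 5 => 83894277 | 6 => 103868704 | _ => 16781313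

/-- evaluation of words of even length -/
noncomputable def evW (z : List ℕ) (m : ℕ) : ℕ :=
  @List.rec ℕ (fun _ => ℕ → ℕ) (fun m => m) (fun x _ ih m => forceN (mulM m x) ih) z m

theorem toM_evW (z : List ℕ) (m : ℕ) : toM (evW z m) = toM m * (z.map toM).prod := by
  induction z generalizing m with
  | nil => simp [evW]
  | cons x z ih =>
    have : evW (x :: z) m = forceN (mulM m x) (evW z) := rfl
    rw [this, forceN_eq, ih, toM_mul]
    simp [mul_assoc]

/-- the codes of a word of even length -/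
def prs : List ℕ → List ℕ
  | x :: y :: w => cA x :: cB y :: prs w
  | _ => []

/-- words of even length in the letters `≤ 6` -/
def evenB : List ℕ → Bool
  | _ :: _ :: w => evenB w
  | [] => true
  | _ => false

/-- inverse transpose -/
def tauF (X : SL37) : SL37 := ⟨(X⁻¹).1ᵀ, by rw [Matrix.det_transpose]; exact (X⁻¹).2⟩

/-- transpose -/
def trF (X : SL37) : SL37 := ⟨(X.1)ᵀ, by rw [Matrix.det_transpose]; exact X.2⟩

theorem tauF_inv (X : SL37) : (tauF X)⁻¹ = trF X := by
  apply inv_eq_of_mul_eq_one_right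
  apply Subtype.ext
  show (X⁻¹).1ᵀ * X.1ᵀ = 1
  rw [← Matrix.transpose_mul]
  have : X.1 * (X⁻¹).1 = 1 := congrArg Subtype.val (mul_inv_cancel X)
  rw [this, Matrix.transpose_one]

theorem tauF_tauF (X : SL37) : tauF (tauF X) = X := by
  apply Subtype.ext
  show ((tauF X)⁻¹).1ᵀ = X.1
  rw [tauF_inv]
  exact Matrix.transpose_transpose _

theorem tauF_mul (X Y : SL37) : tauF (X * Y) = tauF X * tauF Y := by
  apply Subtype.ext
  show ((X * Y)⁻¹).1ᵀ = (X⁻¹).1ᵀ * (Y⁻¹).1ᵀ
  have : (X * Y)⁻¹ = Y⁻¹ * X⁻¹ := _root_.mul_inv_rev X Y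
  rw [this, ← Matrix.transpose_mul]
  rfl

/-- inverse transpose -/
def tau : MulAut SL37 where
  toFun := tauF
  invFun := tauF
  left_inv := tauF_tauF
  right_inv := tauF_tauF
  map_mul' := tauF_mul

theorem tau_val (X : SL37) : (tau X).1 = (X⁻¹).1ᵀ := rfl

theorem tau_tau (X : SL37) : tau (tau X) = X := tauF_tauF X

theorem tau_sq : tau * tau = 1 := by
  ext1 X
  exact tau_tau X

theorem det_cA (x : ℕ) : (toM (cA x)).det = 1 := by
  unfold cA
  split <;> decide +kernel

theorem cAB (x : ℕ) : (toM (cB x))ᵀ * toM (cA x) = 1 := by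
  unfold cA cB
  split <;> decide +kernel

theorem cA_symm (x : ℕ) : (toM (cA x))ᵀ = toM (cA x) := by
  unfold cA
  split <;> decide +kernel

/-- matrices of the letters -/
def As (x : ℕ) : SL37 := ⟨toM (cA x), det_cA x⟩

theorem tau_As (x : ℕ) : (tau (As x)).1 = toM (cB x) := by
  rw [tau_val]
  have h1 : ((toM (cB x))ᵀ : Matrix (Fin 3) (Fin 3) (ZMod 7)) = ((As x)⁻¹).1 := by
    have h2 : (As x).1 * ((As x)⁻¹).1 = 1 := congrArg Subtype.val (mul_inv_cancel (As x))
    calc (toM (cB x))ᵀ = (toM (cB x))ᵀ * ((As x).1 * ((As x)⁻¹).1) := by rw [h2, mul_one]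
      _ = ((toM (cB x))ᵀ * toM (cA x)) * ((As x)⁻¹).1 := (mul_assoc _ _ _).symm
      _ = _ := by rw [cAB, one_mul]
  rw [← h1, Matrix.transpose_transpose]

/-- the automorphisms of the letters -/
def ph (x : ℕ) : MulAut SL37 := MulAut.conj (As x) * tau

theorem tau_conj (A : SL37) : tau * MulAut.conj A = MulAut.conj (tau A) * tau := by
  ext1 X
  show tau (A * X * A⁻¹) = tau A * tau X * (tau A)⁻¹
  rw [map_mul, map_mul, map_inv]

theorem ph_mul (x y : ℕ) : ph x * ph y = MulAut.conj (As x * tau (As y)) := by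
  unfold ph
  rw [mul_assoc, ← mul_assoc tau, tau_conj, mul_assoc (MulAut.conj (tau (As y))), tau_sq, mul_one, map_mul]

theorem ph_sq (x : ℕ) : ph x * ph x = 1 := by
  rw [ph_mul]
  have : As x * tau (As x) = 1 := by
    apply Subtype.ext
    show toM (cA x) * (tau (As x)).1 = 1
    rw [tau_As]
    have := congrArg Matrix.transpose (cAB x)
    rwa [Matrix.transpose_mul, Matrix.transpose_transpose, Matrix.transpose_one, cA_symm] at this
  rw [this, map_one]

/-- the matrix of a word of even length -/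
theorem word_even (w : List ℕ) (hw : evenB w = true) :
    ∃ M : SL37, (w.map ph).prod = MulAut.conj M ∧ M.1 = toM (evW (prs w) 16781313) := by
  have h1 : toM 16781313 = 1 := by decide +kernel
  suffices h : ∃ M : SL37, (w.map ph).prod = MulAut.conj M ∧ M.1 = ((prs w).map toM).prod by
    obtain ⟨M, h2, h3⟩ := h
    exact ⟨M, h2, by rw [toM_evW, h1, one_mul, h3]⟩
  induction w using evenB.induct with
  | case1 x y w ih =>
    obtain ⟨M, h2, h3⟩ := ih hw
    refine ⟨As x * tau (As y) * M, ?_, ?_⟩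
    · rw [List.map_cons, List.map_cons, List.prod_cons, List.prod_cons, ← mul_assoc, ph_mul, h2, map_mul, map_mul, map_mul]
    · show (As x).1 * (tau (As y)).1 * M.1 = _
      rw [tau_As, h3]
      simp only [prs, List.map_cons, List.prod_cons, mul_assoc]
      rfl
  | case2 => exact ⟨1, by simp, by simp [prs]⟩
  | case3 w h1 h2 =>
    exfalso
    rcases w with _ | ⟨x, _ | ⟨y, w⟩⟩
    · exact h2 rfl
    · exact absurd hw (by simp [evenB])
    · exact h1 x y w rfl

theorem conj_smul {M N : SL37} {s : ZMod 7} (hs : s * s * s = 1) (h : M.1 = s • N.1) :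
    MulAut.conj M = MulAut.conj N := by
  have hN : N.1 * (N⁻¹).1 = 1 := congrArg Subtype.val (mul_inv_cancel N)
  have h1 : (M * N⁻¹ : SL37).1 = s • (1 : Matrix (Fin 3) (Fin 3) (ZMod 7)) := by
    show M.1 * (N⁻¹).1 = _
    rw [h, Matrix.smul_mul, hN]
  have h2 : MulAut.conj (M * N⁻¹) = (1 : MulAut SL37) := by
    ext1 X
    show M * N⁻¹ * X * (M * N⁻¹)⁻¹ = X
    rw [mul_inv_eq_iff_eq_mul]
    apply Subtype.ext
    show (M * N⁻¹ : SL37).1 * X.1 = X.1 * (M * N⁻¹ : SL37).1
    rw [h1, Matrix.smul_mul, Matrix.mul_smul, one_mul, mul_one]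
  rw [map_mul, map_inv, mul_inv_eq_one] at h2
  exact h2

/-- test of a relation -/
noncomputable def relB (w : List ℕ) : Bool :=
  evenB w && ((evW (prs w) 16781313 == 16781313) || (evW (prs w) 16781313 == 33562626) ||
    (evW (prs w) 16781313 == 67125252))

theorem rel_of (w : List ℕ) (h : relB w = true) : (w.map ph).prod = 1 := by
  simp only [relB, Bool.and_eq_true, Bool.or_eq_true, beq_iff_eq] at h
  obtain ⟨M, h1, h2⟩ := word_even w h.1
  rw [h1, ← map_one (MulAut.conj : SL37 →* MulAut SL37)]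
  have key : ∀ s : ZMod 7, s * s * s = 1 → M.1 = s • (1 : Matrix (Fin 3) (Fin 3) (ZMod 7)) →
      MulAut.conj M = MulAut.conj (1 : SL37) := fun s hs hM => conj_smul hs hM
  rcases h.2 with (h3 | h3) | h3
  · refine key 1 (by decide) ?_
    rw [h2, h3]
    decide +kernel
  · refine key 2 (by decide) ?_
    rw [h2, h3]
    decide +kernel
  · refine key 4 (by decide) ?_
    rw [h2, h3]
    decide +kernel

end Cfsg.Agent.CosetEnum.ON
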