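import Cfsg.Agent.CosetEnum.ON.T8Data

/-! Permutation table (generated data, owner: helper66). -/

set_option autoImplicit false
set_option maxRecDepth 1000000

namespace Cfsg.Agent.CosetEnum.ONT8

theorem h2_36 : allR (orbC P letsk [] 58654 110790) 94654 1000 = true := by decide +kernel

theorem h2_37 : allR (orbC P letsk [] 58654 110790) 95654 1000 = true := by decide +kernel

theorem h2_38 : allR (orbC P letsk [] 58654 110790) 96654 1000 = true := by decide +kernel

theorem h2_39 : allR (orbC P letsk [] 58654 110790) 97654 1000 = true := by decide +kernel

theorem h2_40 : allR (orbC P letsk [] 58654 110790) 98654 1000 = true := by decide +kernel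

theorem h2_41 : allR (orbC P letsk [] 58654 110790) 99654 1000 = true := by decide +kernel

theorem h2_42 : allR (orbC P letsk [] 58654 110790) 100654 1000 = true := by decide +kernel

theorem h2_43 : allR (orbC P letsk [] 58654 110790) 101654 1000 = true := by decide +kernel

theorem h2_44 : allR (orbC P letsk [] 58654 110790) 102654 1000 = true := by decide +kernel

theorem h2_45 : allR (orbC P letsk [] 58654 110790) 103654 1000 = true := by decide +kernel

theorem h2_46 : allR (orbC P letsk [] 58654 110790) 104654 1000 = true := by decide +kernel

theorem h2_47 : allR (orbC P letsk [] 58654 110790) 105654 1000 = true := by decide +kernel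

theorem h2_48 : allR (orbC P letsk [] 58654 110790) 106654 1000 = true := by decide +kernel

theorem h2_49 : allR (orbC P letsk [] 58654 110790) 107654 1000 = true := by decide +kernel

theorem h2_50 : allR (orbC P letsk [] 58654 110790) 108654 1000 = true := by decide +kernel

theorem h2_51 : allR (orbC P letsk [] 58654 110790) 109654 1000 = true := by decide +kernel

end Cfsg.Agent.CosetEnum.ONT8
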