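import Cfsg.Agent.CosetEnum.ON.T8Data

/-! Permutation table (generated data, owner: helper66). -/

set_option autoImplicit false
set_option maxRecDepth 1000000

namespace Cfsg.Agent.CosetEnum.ONT8

theorem r96 : allR (tst P iv lets RL) 96000 1000 = true := by decide +kernel

theorem o96 : allR (orbC P lets [] 0 122760) 96000 1000 = true := by decide +kernel

theorem r97 : allR (tst P iv lets RL) 97000 1000 = true := by decide +kernel

theorem o97 : allR (orbC P lets [] 0 122760) 97000 1000 = true := by decide +kernel

theorem r98 : allR (tst P iv lets RL) 98000 1000 = true := by decide +kernel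

theorem o98 : allR (orbC P lets [] 0 122760) 98000 1000 = true := by decide +kernel

theorem r99 : allR (tst P iv lets RL) 99000 1000 = true := by decide +kernel

theorem o99 : allR (orbC P lets [] 0 122760) 99000 1000 = true := by decide +kernel

end Cfsg.Agent.CosetEnum.ONT8
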